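import Cfsg.Agent.CosetEnum.Engine

set_option autoImplicit false

/-!
From a completed certificate to the index of a subgroup, the coset action, and orbit sizes.
-/

namespace CfsgLib.CosetEnum

noncomputable section

/-- Number of `i` in `[lo, lo + 2 ^ d)` with `f i`. -/
def cntR (f : Nat → Bool) (d lo : Nat) : Nat :=
  Nat.rec (fun lo => bif f lo then 1 else 0)
    (fun d ih lo => Nat.add (ih lo) (ih (Nat.add lo (Nat.pow 2 d)))) d lo

theorem cntR_spec (f : Nat → Bool) : ∀ d lo,
    cntR f d lo = ((Finset.Ico lo (lo + 2 ^ d)).filter fun i => f i = true).card := by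
  intro d
  induction d with
  | zero =>
    intro lo
    show (bif f lo then 1 else 0) = _
    rw [pow_zero, Nat.Ico_succ_singleton, Finset.filter_singleton]
    cases f lo <;> simp
  | succ d ih =>
    intro lo
    show cntR f d lo + cntR f d (lo + 2 ^ d) = _
    rw [ih, ih, ← Finset.card_union_of_disjoint, ← Finset.filter_union,
      Finset.Ico_union_Ico_eq_Ico (Nat.le_add_right _ _) (Nat.le_add_right _ _), pow_succ, mul_two, ← add_assoc]
    exact Finset.disjoint_filter_filter (Finset.Ico_disjoint_Ico_consecutive _ _ _)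

/-- Grow an orbit by images already justified. -/
def reach1 (tb : Nat → Nat) (sw : Nat → List Nat) (steps t R : Nat) : Nat :=
  bif bit R (Nat.shiftRight (Nat.land (Nat.shiftRight steps (Nat.mul stepWidth t)) stepMask) 8) then
    Nat.lor R (Nat.shiftLeft 1 (walk tb
      (sw (Nat.land (Nat.land (Nat.shiftRight steps (Nat.mul stepWidth t)) stepMask) 255))
      (Nat.shiftRight (Nat.land (Nat.shiftRight steps (Nat.mul stepWidth t)) stepMask) 8)))
  else R

/-- Grow the orbit of `i` from a list of justified images. -/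
def reach (tb : Nat → Nat) (sw : Nat → List Nat) (d steps i : Nat) : Nat :=
  foldR (reach1 tb sw steps) d 0 (Nat.shiftLeft 1 i)

/-- The orbit is closed under the first `ns` words. -/
def closedEntry (n ns : Nat) (tb : Nat → Nat) (sw : Nat → List Nat) (R j : Nat) : Bool :=
  bif Nat.blt j n && bit R j then
    allR (fun s => bif Nat.blt s ns then bit R (walk tb (sw s) j) else true) 4 0
  else true

variable {G : Type*} [Group G] (g : Nat → G) (parN parX : Nat)

/-- Coset representatives along the spanning tree. -/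
def crOf (i : Nat) : G :=
  if _h : ext parN i < i then crOf (ext parN i) * g (ext parX i) else 1
termination_by i

theorem crOf_zero : crOf g parN parX 0 = 1 := by
  rw [crOf, dif_neg (Nat.not_lt_zero _)]

theorem crOf_step (i : Nat) (h : ext parN i < i) :
    crOf g parN parX i = crOf g parN parX (ext parN i) * g (ext parX i) := by
  rw [crOf, dif_pos h]

/-- The tree condition for every non-zero coset. -/
def treeOK (n k : Nat) (tb : Nat → Nat) (parN parX i : Nat) : Bool :=
  bif Nat.blt i n && Nat.blt 0 i then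
    Nat.blt (ext parN i) i && (Nat.blt (ext parX i) k &&
      Nat.beq (T tb (ext parX i) (ext parN i)) i)
  else true

variable {g} {parN parX} {n k : Nat} {tb : Nat → Nat} {H : Subgroup G}

theorem exists_equiv [NeZero n] {B : Nat} (hfull : B = 2 ^ (n * k) - 1)
    (hInv : Inv g H k tb (crOf g parN parX) B) {d : Nat} (hd : n ≤ 2 ^ d)
    (htree : allR (treeOK n k tb parN parX) d 0 = true)
    (φ : G →* Equiv.Perm (Fin n)) (hφ : ∀ x, x < k → ∀ i : Fin n, ((φ (g x))⁻¹ i).val = T tb x i)
    (hgen : Subgroup.closure (g '' {x | x < k}) = ⊤) (hH : ∀ h ∈ H, φ h 0 = 0) :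
    ∃ e : G ⧸ H ≃ Fin n, (∀ (y : G) (q : G ⧸ H), e (y • q) = φ y (e q)) ∧
      e ((1 : G) : G ⧸ H) = 0 := by
  set c := crOf g parN parX
  have hP : ∀ i x, i < n → x < k → P g H tb c i x := fun i x hi hx => hInv i x hx (by
    rw [known, bit_eq, hfull, Nat.testBit_two_pow_sub_one]
    simp only [decide_eq_true_eq]
    show i * k + x < n * k
    calc i * k + x < (i + 1) * k := by rw [add_mul, one_mul]; omega
      _ ≤ n * k := Nat.mul_le_mul_right k hi)
  have claim : ∀ y : G, ∀ i : Fin n, c i * y * (c ((φ y)⁻¹ i : Fin n))⁻¹ ∈ H := by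
    intro y
    have hy : y ∈ Subgroup.closure (g '' {x | x < k}) := hgen ▸ Subgroup.mem_top y
    induction hy using Subgroup.closure_induction with
    | mem y hy =>
      obtain ⟨x, hx, rfl⟩ := hy
      intro i
      rw [hφ x hx i]
      exact hP i x i.2 hx
    | one => intro i; simp [H.one_mem]
    | mul y z _ _ h1 h2 =>
      intro i
      have := H.mul_mem (h1 i) (h2 ((φ y)⁻¹ i))
      rw [map_mul, mul_inv_rev, Equiv.Perm.mul_apply]
      simpa [mul_assoc] using this
    | inv y _ h1 =>
      intro i
      have := H.inv_mem (h1 (φ y i))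
      rw [map_inv, inv_inv]
      simpa [mul_assoc] using this
  have hc0 : ∀ i : Nat, ∀ hi : i < n, (φ (c i))⁻¹ (0 : Fin n) = ⟨i, hi⟩ := by
    intro i
    induction i using Nat.strong_induction_on with
    | _ i ih =>
      intro hi
      rcases Nat.eq_zero_or_pos i with rfl | hpos
      · simp only [c, crOf_zero, map_one, inv_one, Equiv.Perm.one_apply]
        rfl
      · have h := allR_spec d 0 htree i (Nat.zero_le _) (by omega)
        unfold treeOK at h
        rw [show (Nat.blt i n && Nat.blt 0 i) = true by simp [hi, hpos]] at h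
        simp only [cond_true, Bool.and_eq_true, Nat.blt_eq, Nat.beq_eq] at h
        have hcr : c i = c (ext parN i) * g (ext parX i) := crOf_step g parN parX i h.1
        rw [hcr, map_mul, mul_inv_rev, Equiv.Perm.mul_apply, ih _ h.1 (by omega)]
        exact Fin.ext ((hφ _ h.2.1 _).trans h.2.2)
  let F : G ⧸ H → Fin n := fun q => Quotient.liftOn' q (fun y => φ y 0) fun a b hab => by
    rw [QuotientGroup.leftRel_apply] at hab
    have := hH _ hab
    rw [map_mul, map_inv, Equiv.Perm.mul_apply, Equiv.Perm.inv_eq_iff_eq] at this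
    exact this.symm
  have hsurj : Function.Surjective F := fun i => ⟨(((c i)⁻¹ : G) : G ⧸ H), by
    show φ (c i)⁻¹ 0 = i
    rw [map_inv, hc0 i i.2]⟩
  have hinj : Function.Injective F := by
    have key : ∀ y : G, ((y : G) : G ⧸ H) = (((c (φ y 0 : Fin n))⁻¹ : G) : G ⧸ H) := fun y => by
      rw [QuotientGroup.eq]
      have h := claim y⁻¹ 0
      rw [map_inv, inv_inv] at h
      simpa [c, crOf_zero] using h
    intro q r hqr
    induction q using QuotientGroup.induction_on with
    | H y =>
      induction r using QuotientGroup.induction_on with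
      | H z =>
        rw [key y, key z]
        exact congrArg (fun t : Fin n => (((c t)⁻¹ : G) : G ⧸ H)) hqr
  refine ⟨Equiv.ofBijective F ⟨hinj, hsurj⟩, fun y q => ?_, by show φ 1 0 = 0; simp⟩
  induction q using QuotientGroup.induction_on with
  | H z =>
    show φ (y * z) 0 = φ y (φ z 0)
    rw [map_mul, Equiv.Perm.mul_apply]

theorem index_eq {e : G ⧸ H ≃ Fin n} : H.index = n := by
  rw [Subgroup.index_eq_card, Nat.card_congr e, Nat.card_fin]

theorem orbit_ncard (φ : G →* Equiv.Perm (Fin n)) (sw : Nat → List Nat) (ns : Nat) (gs : Nat → G)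
    (hHgen : H = Subgroup.closure (gs '' {s | s < ns}))
    (hsw : ∀ s, s < ns → ∀ i : Fin n, ((φ (gs s))⁻¹ i).val = walk tb (sw s) i)
    (hns : ns ≤ 16) (hswpad : ∀ s, ns ≤ s → sw s = [])
    {d dR steps : Nat} (hd : n ≤ 2 ^ d) (i0 : Fin n) (R m : Nat)
    (hR : reach tb sw dR steps i0 = R)
    (hclosed : allR (closedEntry n ns tb sw R) d 0 = true)
    (hcnt : cntR (fun j => bit R j) d 0 = m)
    (hlt : R < 2 ^ n)
    (e : G ⧸ H ≃ Fin n) (he : ∀ (y : G) (q : G ⧸ H), e (y • q) = φ y (e q)) :
    (MulAction.orbit H (e.symm i0)).ncard = m ∧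
      ∀ j : Fin n, bit R j.val = false → MulAction.orbit H (e.symm i0) ≠ MulAction.orbit H (e.symm j) := by
  let S : Set (Fin n) := {j | bit R j.val = true}
  have hin : ∀ h ∈ H, ∀ j : Fin n, bit R j.val = true → bit R (((φ h)⁻¹ j).val) = true := by
    intro h hh
    rw [hHgen] at hh
    induction hh using Subgroup.closure_induction with
    | mem y hy =>
      obtain ⟨s, hs, rfl⟩ := hy
      intro j hj
      have h1 := allR_spec d 0 hclosed j (Nat.zero_le _) (by omega)
      unfold closedEntry at h1
      rw [show (Nat.blt j.val n && bit R j.val) = true by simp [hj]] at h1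
      simp only [cond_true] at h1
      have h2 := allR_spec 4 0 h1 s (Nat.zero_le _) (by
        show s < 0 + 2 ^ 4
        have : s < ns := hs
        omega)
      rw [show Nat.blt s ns = true by simpa using hs] at h2
      rw [hsw s hs j]
      simpa using h2
    | one => intro j hj; simpa using hj
    | mul y z _ _ h1 h2 =>
      intro j hj
      rw [map_mul, mul_inv_rev, Equiv.Perm.mul_apply]
      exact h2 _ (h1 j hj)
    | inv y _ h1 =>
      intro j hj
      have hmaps : Set.MapsTo (⇑(φ y)⁻¹) S S := fun a ha => h1 a ha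
      obtain ⟨a, ha, hab⟩ :=
        (((Set.toFinite S).injOn_iff_bijOn_of_mapsTo hmaps).mp (Equiv.injective _).injOn).surjOn hj
      rw [map_inv, inv_inv, ← hab, Equiv.Perm.inv_def, Equiv.apply_symm_apply]
      exact ha
  have hout : ∀ j, bit R j = true → ∃ h ∈ H, ((φ h)⁻¹ i0).val = j := by
    rw [← hR]
    refine foldR_induction (Q := fun R => ∀ j, bit R j = true → ∃ h ∈ H, ((φ h)⁻¹ i0).val = j)
      (fun t R hQ => ?_) dR 0 _ ?_
    · unfold reach1
      generalize Nat.land (Nat.shiftRight steps (Nat.mul stepWidth t)) stepMask = st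
      generalize Nat.shiftRight st 8 = src
      generalize Nat.land st 255 = s
      cases hb : bit R src
      · exact hQ
      simp only [cond_true]
      intro j hj
      rw [bit_eq] at hj
      change Nat.testBit (R ||| 1 <<< walk tb (sw s) src) j = true at hj
      simp only [Nat.testBit_or, Nat.one_shiftLeft, Nat.testBit_two_pow, Bool.or_eq_true,
        decide_eq_true_eq] at hj
      rcases hj with hj | hj
      · exact hQ j (by rw [bit_eq]; exact hj)
      · obtain ⟨h, hh, hsrc⟩ := hQ src hb
        by_cases hs : s < ns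
        · refine ⟨h * gs s, mul_mem hh ?_, ?_⟩
          · rw [hHgen]; exact Subgroup.subset_closure ⟨s, hs, rfl⟩
          · rw [map_mul, mul_inv_rev, Equiv.Perm.mul_apply, hsw s hs, hsrc, hj]
        · rw [hswpad s (Nat.le_of_not_lt hs)] at hj
          exact ⟨h, hh, hsrc.trans hj⟩
    · intro j hj
      rw [bit_eq] at hj
      change Nat.testBit (1 <<< i0.val) j = true at hj
      simp only [Nat.one_shiftLeft, Nat.testBit_two_pow, decide_eq_true_eq] at hj
      exact ⟨1, H.one_mem, by simpa using hj⟩
  have hi0 : bit R i0.val = true := by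
    rw [← hR]
    refine foldR_induction (Q := fun R => bit R i0.val = true) (fun t R hQ => ?_) dR 0 _ ?_
    · unfold reach1
      cases bit R _
      · exact hQ
      · simp only [cond_true]
        rw [bit_eq] at hQ ⊢
        change Nat.testBit (R ||| _) _ = true
        rw [Nat.testBit_or, hQ, Bool.true_or]
    · rw [bit_eq]
      change Nat.testBit (1 <<< i0.val) _ = true
      simp [Nat.one_shiftLeft, Nat.testBit_two_pow]
  have horb : MulAction.orbit H (e.symm i0) = e.symm '' S := by
    ext q
    constructor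
    · rintro ⟨⟨h, hh⟩, rfl⟩
      refine ⟨φ h i0, ?_, e.injective ?_⟩
      · show bit R (φ h i0).val = true
        have := hin h⁻¹ (H.inv_mem hh) i0 hi0
        rwa [map_inv, inv_inv] at this
      · show e (e.symm (φ h i0)) = e (h • e.symm i0)
        rw [he, e.apply_symm_apply, e.apply_symm_apply]
    · rintro ⟨j, hj, rfl⟩
      obtain ⟨h, hh, hj'⟩ := hout j hj
      refine ⟨⟨h⁻¹, H.inv_mem hh⟩, e.injective ?_⟩
      show e (h⁻¹ • e.symm i0) = e (e.symm j)
      rw [he, e.apply_symm_apply, e.apply_symm_apply, map_inv]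
      exact Fin.ext hj'
  refine ⟨?_, fun j hj heq => ?_⟩
  swap
  · have hmem : e.symm j ∈ MulAction.orbit H (e.symm i0) := heq ▸ MulAction.mem_orbit_self _
    rw [horb] at hmem
    obtain ⟨a, ha, hae⟩ := hmem
    rw [e.symm.injective hae] at ha
    exact Bool.false_ne_true (hj.symm.trans ha)
  rw [horb, Set.ncard_image_of_injective _ e.symm.injective, ← hcnt, cntR_spec, zero_add]
  have hb : ∀ j, bit R j = true → j < n := fun j hj => by
    by_contra hn
    rw [bit_eq, Nat.testBit_lt_two_pow (lt_of_lt_of_le hlt (Nat.pow_le_pow_right (by norm_num)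
      (Nat.le_of_not_lt hn)))] at hj
    exact Bool.false_ne_true hj
  rw [← Set.ncard_image_of_injective S Fin.val_injective, ← Set.ncard_coe_finset]
  congr 1
  ext j
  simp only [Set.mem_image, Finset.coe_filter, Finset.mem_Ico, Set.mem_ofPred_eq, S]
  constructor
  · rintro ⟨a, ha, rfl⟩
    exact ⟨⟨Nat.zero_le _, by omega⟩, ha⟩
  · rintro ⟨-, hj⟩
    exact ⟨⟨j, hb j hj⟩, hj, rfl⟩

end

end CfsgLib.CosetEnum
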