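import Cfsg.Agent.CosetEnum.Cox

set_option autoImplicit false

/-! Homomorphisms out of a group given by a `Setup`, from a check of its words. -/

namespace CfsgLib.CosetEnum.Setup

open Cfsg.Spor

variable {α : Type} [DecidableEq α] (S : Setup α) {K : Type} [Group K]

theorem exists_hom (u : ℕ → K) (hsq : ∀ x, x < S.k → u x * u x = 1)
    (hw : ∀ w ∈ S.words, prodw u w = 1) :
    ∃ χ : S.Grp →* K, ∀ x, x < S.k → χ (S.g x) = u x := by
  let f : α → K := fun a => u (S.ix a)
  have hf : ∀ a, f a * f a = 1 := fun a => hsq _ (S.ix_lt a)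
  have hfw : ∀ w : List ℕ, (∀ x ∈ w, x < S.k) → prodw (f ∘ S.en) w = prodw u w := fun w hlt => by
    simp only [prodw]
    congr 1
    refine List.map_congr_left fun x hx => ?_
    show u (S.ix (S.en x)) = u x
    rw [S.ix_en x (hlt x hx)]
  have hpair : ∀ i j, i < S.k → j < S.k → i ≤ j →
      (f (S.en i) * f (S.en j)) ^ coxLabel S.edges (S.en i) (S.en j) = 1 := by
    intro i j hi hj hij
    have := hw ((List.replicate (coxLabel S.edges (S.en i) (S.en j)) [i, j]).flatten) (by
      rw [S.words_eq]; exact List.mem_append_left _ (mem_coxWords.mpr ⟨i, j, hi, hj, hij, rfl⟩))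
    rw [prodw_replicate] at this
    show (u (S.ix (S.en i)) * u (S.ix (S.en j))) ^ _ = 1
    rw [S.ix_en i hi, S.ix_en j hj]
    simpa [prodw] using this
  have hrels : ∀ r ∈ coxRelators S.edges ∪ {r | r ∈ S.extra}, FreeGroup.lift f r = 1 := by
    rintro r (⟨a, -, b, -, rfl⟩ | hr)
    · rw [map_pow, map_mul, FreeGroup.lift_apply_of, FreeGroup.lift_apply_of]
      rcases le_total (S.ix a) (S.ix b) with h | h
      · have := hpair _ _ (S.ix_lt a) (S.ix_lt b) h
        rwa [S.en_ix, S.en_ix] at this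
      · have := hpair _ _ (S.ix_lt b) (S.ix_lt a) h
        rw [S.en_ix, S.en_ix, coxLabel_symm] at this
        have h' : f a * f b = (f b * f a)⁻¹ := by
          rw [mul_inv_rev, inv_eq_of_mul_eq_one_right (hf a), inv_eq_of_mul_eq_one_right (hf b)]
        rw [h', inv_pow, this, inv_one]
    · have hm : FreeGroup.lift f r ∈ S.extra.map (FreeGroup.lift f) := List.mem_map_of_mem hr
      rw [S.exW_eq _ f hf] at hm
      obtain ⟨w, hmw, hw'⟩ := List.mem_map.mp hm
      rw [← hw', hfw w (S.exW_lt w hmw)]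
      exact hw w (by rw [S.words_eq]; exact List.mem_append_right _ hmw)
  refine ⟨PresentedGroup.toGroup hrels, fun x hx => ?_⟩
  rw [Setup.g, PresentedGroup.toGroup.of]
  show u (S.ix (S.en x)) = u x
  rw [S.ix_en x hx]

theorem hom_prodw (χ : S.Grp →* K) {u : ℕ → K} (hχ : ∀ x, x < S.k → χ (S.g x) = u x)
    (w : List ℕ) (hlt : ∀ x ∈ w, x < S.k) : χ (prodw S.g w) = prodw u w := by
  simp only [prodw, map_list_prod, List.map_map]
  congr 1
  exact List.map_congr_left fun x hx => hχ x (hlt x hx)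

end CfsgLib.CosetEnum.Setup
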