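import Mathlib

set_option autoImplicit false

/-!
Certificate checker for coset enumerations, shaped for evaluation by the kernel.

A coset table on `n` cosets and `k` letters is stored as one packed number per letter.  A bit set
records the edges `(i, x)` for which `H (c i) (g x) = H (c (T x i))` has been established.  Every
checker function leaves the bit set unchanged when a check fails, so soundness needs no side
condition.
-/

namespace CfsgLib.CosetEnum

noncomputable section

def width : Nat := 20
def mask : Nat := 1048575

/-- Entry `i` of a packed table. -/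
def ext (tbl i : Nat) : Nat := Nat.land (Nat.shiftRight tbl (Nat.mul width i)) mask

/-- Evaluate `m` to a numeral before passing it on. -/
def force {α : Type} (m : Nat) (f : Nat → α) : α :=
  Nat.rec (f Nat.zero) (fun p _ => f (Nat.succ p)) m

theorem force_eq {α : Type} (m : Nat) (f : Nat → α) : force m f = f m := by cases m <;> rfl

/-- Bit test. -/
def bit (B p : Nat) : Bool := Nat.beq (Nat.land (Nat.shiftRight B p) 1) 1

theorem bit_eq (B p : Nat) : bit B p = Nat.testBit B p := by
  have h : ∀ a b : Nat, Nat.beq a b = decide (a = b) := fun a b => by
    by_cases hab : a = b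
    · subst hab; simp
    · rw [decide_eq_false hab]
      cases hh : Nat.beq a b
      · rfl
      · exact absurd (Nat.eq_of_beq_eq_true hh) hab
  rw [bit, h, Nat.testBit_eq_decide_div_mod_eq]
  show decide ((B >>> p) &&& 1 = 1) = _
  rw [Nat.and_one_is_mod, Nat.shiftRight_eq_div_pow]

/-- Fold `f` over `[lo, lo + 2 ^ d)`. -/
def foldR (f : Nat → Nat → Nat) (d lo B : Nat) : Nat :=
  Nat.rec (fun lo B => force (f lo B) fun B => B)
    (fun d ih lo B => force (ih lo B) fun B => ih (Nat.add lo (Nat.pow 2 d)) B) d lo B

theorem foldR_induction {f : Nat → Nat → Nat} {Q : Nat → Prop}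
    (h : ∀ i B, Q B → Q (f i B)) : ∀ d lo B, Q B → Q (foldR f d lo B) := by
  intro d
  induction d with
  | zero => intro lo B hB; simp only [foldR, force_eq]; exact h lo B hB
  | succ d ih =>
    intro lo B hB
    show Q (force (foldR f d lo B) fun B => foldR f d (Nat.add lo (Nat.pow 2 d)) B)
    rw [force_eq]
    exact ih _ _ (ih _ _ hB)

/-- Conjunction over `[lo, lo + 2 ^ d)`. -/
def allR (f : Nat → Bool) (d lo : Nat) : Bool :=
  Nat.rec (fun lo => f lo) (fun d ih lo => ih lo && ih (Nat.add lo (Nat.pow 2 d))) d lo

theorem allR_spec {f : Nat → Bool} :
    ∀ d lo, allR f d lo = true → ∀ i, lo ≤ i → i < lo + 2 ^ d → f i = true := by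
  intro d
  induction d with
  | zero =>
    intro lo h i h1 h2
    obtain rfl : i = lo := by simp at h2; omega
    exact h
  | succ d ih =>
    intro lo h i h1 h2
    have h' : (allR f d lo && allR f d (lo + 2 ^ d)) = true := h
    rw [Bool.and_eq_true] at h'
    rw [pow_succ] at h2
    by_cases hi : i < lo + 2 ^ d
    · exact ih lo h'.1 i h1 hi
    · exact ih _ h'.2 i (by omega) (by omega)

theorem allR_join {f : Nat → Bool} {d lo hi : Nat} (h1 : allR f d lo = true)
    (hhi : lo + 2 ^ d = hi) (h2 : allR f d hi = true) : allR f (d + 1) lo = true := by
  subst hhi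
  show (allR f d lo && allR f d (lo + 2 ^ d)) = true
  rw [h1, h2]
  rfl

section Checker

variable (n k : Nat) (tb iv : Nat → Nat) (parN parX : Nat) (wd : Nat → List Nat) (nR nW : Nat)

/-- Table entry. -/
def T (x i : Nat) : Nat := ext (tb x) i

/-- Has the edge been established? -/
def known (B i x : Nat) : Bool := bit B (Nat.add (Nat.mul i k) x)

/-- Record an edge and its reverse. -/
def mark (B i x : Nat) : Nat :=
  bif Nat.blt (iv x) k && Nat.beq (T tb (iv x) (T tb x i)) i then
    Nat.lor (Nat.lor B (Nat.shiftLeft 1 (Nat.add (Nat.mul i k) x)))
      (Nat.shiftLeft 1 (Nat.add (Nat.mul (T tb x i) k) (iv x)))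
  else B

/-- A closed path all of whose edges are known. -/
def allKnown (B e : Nat) (w : List Nat) (a : Nat) : Bool :=
  List.rec (fun a => Nat.beq a e)
    (fun x _ ih a => Nat.blt x k && known k B a x && ih (T tb x a)) w a

/-- A closed path all of whose edges but the one at position `j` are known. -/
def scan (B e : Nat) (w : List Nat) (j a : Nat) : Bool :=
  List.rec (fun _ _ => false)
    (fun x w ih j a => Nat.rec (Nat.blt x k && allKnown k tb B e w (T tb x a))
      (fun j' _ => Nat.blt x k && known k B a x && ih j' (T tb x a)) j) w j a

/-- The starting node of the edge at position `j`. -/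
def gapNode (w : List Nat) (j a : Nat) : Nat :=
  List.rec (fun _ a => a) (fun x _ ih j a => Nat.rec a (fun j' _ => ih j' (T tb x a)) j) w j a

/-- The letter at position `j`. -/
def gapLet (w : List Nat) (j : Nat) : Nat :=
  List.rec (fun _ => 0) (fun x _ ih j => Nat.rec x (fun j' _ => ih j') j) w j

/-- A deduction from a relator (or subgroup generator at coset `0`). -/
def ded (s B : Nat) : Nat :=
  bif (Nat.blt (Nat.land (Nat.shiftRight s 8) 255) nR ||
        (Nat.beq (Nat.shiftRight s 16) 0 && Nat.blt (Nat.land (Nat.shiftRight s 8) 255) nW)) &&
      scan k tb B (Nat.shiftRight s 16) (wd (Nat.land (Nat.shiftRight s 8) 255)) (Nat.land s 255)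
        (Nat.shiftRight s 16) then
    mark k tb iv B (gapNode tb (wd (Nat.land (Nat.shiftRight s 8) 255)) (Nat.land s 255) (Nat.shiftRight s 16))
      (gapLet (wd (Nat.land (Nat.shiftRight s 8) 255)) (Nat.land s 255))
  else B

def stepWidth : Nat := 40
def stepMask : Nat := 1099511627775

/-- Run a packed block of `2 ^ d` deductions. -/
def runDed (d steps B : Nat) : Nat :=
  foldR (fun i B => ded k tb iv wd nR nW
    (Nat.land (Nat.shiftRight steps (Nat.mul stepWidth i)) stepMask) B) d 0 B

/-- A defining (spanning tree) edge. -/
def tree (i B : Nat) : Nat :=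
  bif Nat.blt (ext parN i) i && Nat.blt (ext parX i) k &&
      Nat.beq (T tb (ext parX i) (ext parN i)) i then
    mark k tb iv B (ext parN i) (ext parX i)
  else B

/-- All defining edges. -/
def runTree (d : Nat) : Nat := foldR (tree k tb iv parN parX) d 0 0

/-- Validity of the table. -/
def validEntry (i : Nat) : Bool :=
  bif Nat.blt i n then
    allR (fun x => bif Nat.blt x k then
      Nat.blt (T tb x i) n && Nat.beq (T tb (iv x) (T tb x i)) i else true) 4 0
  else true

/-- The end of a path. -/
def walk (w : List Nat) (a : Nat) : Nat :=
  List.rec (fun a => a) (fun x _ ih a => ih (T tb x a)) w a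

/-- A word fixes every coset below `n`. -/
def fixesAll (w : List Nat) (d : Nat) : Bool :=
  allR (fun i => bif Nat.blt i n then Nat.beq (walk tb w i) i else true) d 0

end Checker

/-! ### Derived facts -/

/-- One step of a path of facts. -/
inductive PE where
  | tab (x : Nat)
  | app (x : Nat)
  | drop
  | fwd (f : Nat)
  | bwd (f : Nat)

/-- A fact `val u * prod l * (val v)⁻¹ ∈ H` between nodes (coset, word). -/
structure Fact where
  u : Nat × List Nat
  l : List Nat
  v : Nat × List Nat

/-- A derivation of a fact: a relator read around `start`. -/
structure Deriv where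
  start : Nat × List Nat
  rel : Nat
  preP : List PE
  l : List Nat
  v : Nat × List Nat
  post : List PE

section Facts

variable (k : Nat) (tb iv : Nat → Nat) (wd : Nat → List Nat) (nR nW : Nat)

/-- Follow a path of facts, collecting the word read. -/
def follow (B : Nat) (F : List Fact) : List PE → Nat × List Nat → Option (List Nat × (Nat × List Nat))
  | [], a => some ([], a)
  | e :: es, a =>
    let st : Option (List Nat × (Nat × List Nat)) :=
      match e with
      | .tab x => if x < k ∧ a.2 = [] ∧ known k B a.1 x = true then some ([x], (T tb x a.1, [])) else none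
      | .app x => if x < k then some ([x], (a.1, a.2 ++ [x])) else none
      | .drop => match a.2.reverse with
        | [] => none
        | y :: r => if y < k ∧ iv y < k then some ([iv y], (a.1, r.reverse)) else none
      | .fwd f => match F[f]? with
        | none => none
        | some q => if q.u = a then some (q.l, q.v) else none
      | .bwd f => match F[f]? with
        | none => none
        | some q => if q.v = a ∧ (∀ y ∈ q.l, y < k ∧ iv y < k) then some ((q.l.map iv).reverse, q.u) else none
    match st with
    | none => none
    | some (l, b) =>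
      match follow B F es b with
      | none => none
      | some (m, c) => some (l ++ m, c)

/-- The word of a derivation, if it may be used at its start node. -/
def relWord (D : Deriv) : Option (List Nat) :=
  if D.rel < nR then some (wd D.rel)
  else if D.rel < nW then (if D.start = (0, []) then some (wd D.rel) else none)
  else if D.rel - nW < k ∧ iv (D.rel - nW) < k then some [D.rel - nW, iv (D.rel - nW)]
  else if D.rel = nW + k then some []
  else none

/-- Check a derivation. -/
def derive1 (B : Nat) (F : List Fact) (D : Deriv) : Option Fact :=
  match follow k tb iv B F D.preP D.start, follow k tb iv B F D.post D.v, relWord k iv wd nR nW D with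
  | some (la, u), some (lb, s), some w =>
    if s = D.start ∧ la ++ D.l ++ lb = w then some ⟨u, D.l, D.v⟩ else none
  | _, _, _ => none

/-- All facts of a list of derivations. -/
def deriveAll (B : Nat) : List Deriv → List Fact → List Fact
  | [], F => F
  | D :: Ds, F =>
    match derive1 k tb iv wd nR nW B F D with
    | none => deriveAll B Ds F
    | some f => deriveAll B Ds (F ++ [f])

/-- Establish an edge from derived facts. -/
def grant (B : Nat) (Ds : List Deriv) (i x : Nat) (p : List PE) : Nat :=
  match follow k tb iv B (deriveAll k tb iv wd nR nW B Ds []) p (i, []) with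
  | none => B
  | some (l, e) => if x < k ∧ l = [x] ∧ e = (T tb x i, []) then mark k tb iv B i x else B

end Facts

/-! ### Soundness -/

section Sound

variable {G : Type*} [Group G] (g : Nat → G)

/-- The product of a word. -/
def prodw (w : List Nat) : G := (w.map g).prod

theorem prodw_nil : prodw g [] = 1 := rfl
theorem prodw_cons (x : Nat) (w : List Nat) : prodw g (x :: w) = g x * prodw g w := by simp [prodw]
theorem prodw_append (v w : List Nat) : prodw g (v ++ w) = prodw g v * prodw g w := by simp [prodw]

theorem prodw_rev_iv (k : Nat) (iv : Nat → Nat)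
    (hiv : ∀ x, x < k → iv x < k → g (iv x) = (g x)⁻¹) :
    ∀ w : List Nat, (∀ y ∈ w, y < k ∧ iv y < k) → prodw g ((w.map iv).reverse) = (prodw g w)⁻¹ := by
  intro w
  induction w with
  | nil => intro _; simp [prodw]
  | cons x w ih =>
    intro h
    rw [List.map_cons, List.reverse_cons, prodw_append, ih fun y hy => h y (List.mem_cons_of_mem x hy),
      prodw_cons, prodw_cons, prodw_nil, mul_one, mul_inv_rev,
      hiv x (h x List.mem_cons_self).1 (h x List.mem_cons_self).2]

variable (H : Subgroup G) (k : Nat) (tb iv : Nat → Nat) (parN parX : Nat)
  (wd : Nat → List Nat) (nR nW : Nat) (cr : Nat → G)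

/-- The established meaning of an edge. -/
def P (i x : Nat) : Prop := cr i * g x * (cr (T tb x i))⁻¹ ∈ H

/-- All recorded edges hold. -/
def Inv (B : Nat) : Prop := ∀ i x, x < k → known k B i x = true → P g H tb cr i x

theorem inv_zero : Inv g H k tb cr 0 := by
  intro i x _ h
  rw [known, bit_eq] at h
  simp at h

theorem pos_inj {k i x i' x' : Nat} (hx : x < k) (hx' : x' < k) (h : i * k + x = i' * k + x') :
    i = i' ∧ x = x' := by
  have h1 := congrArg (fun t => t % k) h
  simp [Nat.mul_add_mod_self_right, Nat.mod_eq_of_lt hx, Nat.mod_eq_of_lt hx'] at h1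
  subst h1
  exact ⟨Nat.eq_of_mul_eq_mul_right (by omega) (Nat.add_right_cancel h), rfl⟩

variable {g H k tb iv parN parX wd nR nW cr}
variable (hiv : ∀ x, x < k → iv x < k → g (iv x) = (g x)⁻¹)
include hiv

theorem mark_sound {B i x : Nat} (hB : Inv g H k tb cr B) (hx : x < k) (hP : P g H tb cr i x) :
    Inv g H k tb cr (mark k tb iv B i x) := by
  unfold mark
  cases hc : (Nat.blt (iv x) k && Nat.beq (T tb (iv x) (T tb x i)) i)
  · exact hB
  simp only [cond_true]
  simp only [Bool.and_eq_true, Nat.blt_eq, Nat.beq_eq] at hc
  intro i' x' hx' h
  rw [known, bit_eq] at h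
  change Nat.testBit ((B ||| 1 <<< (i * k + x)) ||| 1 <<< (T tb x i * k + iv x)) (i' * k + x') = true at h
  simp only [Nat.testBit_or, Nat.one_shiftLeft, Nat.testBit_two_pow, Bool.or_eq_true,
    decide_eq_true_eq] at h
  rcases h with (h | h) | h
  · exact hB i' x' hx' (by rw [known, bit_eq]; exact h)
  · obtain ⟨rfl, rfl⟩ := pos_inj hx hx' h
    exact hP
  · obtain ⟨rfl, rfl⟩ := pos_inj hc.1 hx' h
    show cr (T tb x i) * g (iv x) * (cr (T tb (iv x) (T tb x i)))⁻¹ ∈ H
    rw [hc.2, hiv x hx hc.1]
    simpa [mul_assoc] using H.inv_mem hP

omit hiv in
theorem allKnown_sound {B e : Nat} (hB : Inv g H k tb cr B) :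
    ∀ (w : List Nat) (a : Nat), allKnown k tb B e w a = true →
      cr a * prodw g w * (cr e)⁻¹ ∈ H := by
  intro w
  induction w with
  | nil =>
    intro a h
    obtain rfl : a = e := Nat.eq_of_beq_eq_true h
    simpa [prodw] using H.one_mem
  | cons x w ih =>
    intro a h
    have h' : (Nat.blt x k && known k B a x && allKnown k tb B e w (T tb x a)) = true := h
    simp only [Bool.and_eq_true, Nat.blt_eq] at h'
    have := H.mul_mem (hB a x h'.1.1 h'.1.2) (ih _ h'.2)
    simpa [prodw_cons, mul_assoc] using this

omit hiv in
theorem scan_sound {B e : Nat} (hB : Inv g H k tb cr B) :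
    ∀ (w : List Nat) (j a : Nat), scan k tb B e w j a = true →
      cr a * prodw g w * (cr e)⁻¹ ∈ H →
      gapLet w j < k ∧ P g H tb cr (gapNode tb w j a) (gapLet w j) := by
  intro w
  induction w with
  | nil => intro j a h; exact absurd h Bool.false_ne_true
  | cons x w ih =>
    intro j a h hw
    cases j with
    | zero =>
      have h' : (Nat.blt x k && allKnown k tb B e w (T tb x a)) = true := h
      simp only [Bool.and_eq_true, Nat.blt_eq] at h'
      refine ⟨h'.1, ?_⟩
      have := H.mul_mem hw (H.inv_mem (allKnown_sound hB w _ h'.2))
      show cr a * g x * (cr (T tb x a))⁻¹ ∈ H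
      simpa [prodw_cons, mul_assoc] using this
    | succ j =>
      have h' : (Nat.blt x k && known k B a x && scan k tb B e w j (T tb x a)) = true := h
      simp only [Bool.and_eq_true, Nat.blt_eq] at h'
      refine ih j (T tb x a) h'.2 ?_
      have := H.mul_mem (H.inv_mem (hB a x h'.1.1 h'.1.2)) hw
      simpa [prodw_cons, mul_assoc] using this

variable (h0 : cr 0 = 1) (hrel : ∀ r, r < nR → prodw g (wd r) = 1)
  (hsub : ∀ r, r < nW → prodw g (wd r) ∈ H)
include h0 hrel hsub

theorem ded_sound {s B : Nat} (hB : Inv g H k tb cr B) :
    Inv g H k tb cr (ded k tb iv wd nR nW s B) := by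
  unfold ded
  generalize Nat.shiftRight s 16 = i
  generalize Nat.land (Nat.shiftRight s 8) 255 = r
  generalize Nat.land s 255 = j
  cases hc : ((Nat.blt r nR || (Nat.beq i 0 && Nat.blt r nW)) && scan k tb B i (wd r) j i)
  · exact hB
  simp only [cond_true]
  simp only [Bool.and_eq_true, Bool.or_eq_true, Nat.blt_eq, Nat.beq_eq] at hc
  have hw : cr i * prodw g (wd r) * (cr i)⁻¹ ∈ H := by
    rcases hc.1 with h | ⟨rfl, h⟩
    · simp [hrel r h, H.one_mem]
    · simpa [h0] using hsub r h
  obtain ⟨hx, hP⟩ := scan_sound hB (wd r) j i hc.2 hw
  exact mark_sound hiv hB hx hP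

theorem runDed_sound {d steps B : Nat} (hB : Inv g H k tb cr B) :
    Inv g H k tb cr (runDed k tb iv wd nR nW d steps B) :=
  foldR_induction (fun _ _ hB => ded_sound hiv h0 hrel hsub hB) d 0 B hB

omit h0 hrel hsub in
theorem runTree_sound (hcr : ∀ i, ext parN i < i → cr i = cr (ext parN i) * g (ext parX i))
    (d : Nat) : Inv g H k tb cr (runTree k tb iv parN parX d) := by
  refine foldR_induction (fun i B hB => ?_) d 0 0 (inv_zero g H k tb cr)
  unfold tree
  cases hc : (Nat.blt (ext parN i) i && Nat.blt (ext parX i) k &&
      Nat.beq (T tb (ext parX i) (ext parN i)) i)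
  · exact hB
  simp only [cond_true]
  simp only [Bool.and_eq_true, Nat.blt_eq, Nat.beq_eq] at hc
  refine mark_sound hiv hB hc.1.2 ?_
  show cr (ext parN i) * g (ext parX i) * (cr (T tb (ext parX i) (ext parN i)))⁻¹ ∈ H
  rw [hc.2, hcr i hc.1.1, mul_inv_cancel]
  exact H.one_mem

omit h0 hrel hsub hiv in
/-- The value of a node. -/
theorem val_app (a : Nat × List Nat) (x : Nat) :
    cr a.1 * prodw g (a.2 ++ [x]) = cr a.1 * prodw g a.2 * g x := by
  simp [prodw, mul_assoc]

variable (g H cr) in
/-- Meaning of a fact. -/
def Rel (u : Nat × List Nat) (l : List Nat) (v : Nat × List Nat) : Prop :=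
  cr u.1 * prodw g u.2 * prodw g l * (cr v.1 * prodw g v.2)⁻¹ ∈ H

omit h0 hrel hsub in
theorem follow_sound {B : Nat} (hB : Inv g H k tb cr B) {F : List Fact}
    (hF : ∀ q ∈ F, Rel g H cr q.u q.l q.v) :
    ∀ (es : List PE) (a : Nat × List Nat) (l : List Nat) (b : Nat × List Nat),
      follow k tb iv B F es a = some (l, b) → Rel g H cr a l b := by
  intro es
  induction es with
  | nil =>
    intro a l b h
    simp only [follow, Option.some.injEq, Prod.mk.injEq] at h
    obtain ⟨rfl, rfl⟩ := h
    simp [Rel, prodw]
  | cons e es ih =>
    intro a l b h
    obtain ⟨l₁, c, l₂, hl, hc, hrest⟩ : ∃ l₁ c l₂, l = l₁ ++ l₂ ∧ Rel g H cr a l₁ c ∧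
        follow k tb iv B F es c = some (l₂, b) := by
      cases e with
      | tab x =>
        simp only [follow] at h
        split at h
        · simp at h
        · rename_i l₁ c heq
          split at heq
          · rename_i hcond
            simp only [Option.some.injEq, Prod.mk.injEq] at heq
            obtain ⟨rfl, rfl⟩ := heq
            split at h
            · simp at h
            · rename_i m d hd
              simp only [Option.some.injEq, Prod.mk.injEq] at h
              obtain ⟨rfl, rfl⟩ := h
              refine ⟨_, _, _, rfl, ?_, hd⟩
              have := hB a.1 x hcond.1 hcond.2.2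
              simpa [Rel, hcond.2.1, prodw, P, mul_assoc] using this
          · simp at heq
      | app x =>
        simp only [follow] at h
        split at h
        · simp at h
        · rename_i l₁ c heq
          split at heq
          · simp only [Option.some.injEq, Prod.mk.injEq] at heq
            obtain ⟨rfl, rfl⟩ := heq
            split at h
            · simp at h
            · rename_i m d hd
              simp only [Option.some.injEq, Prod.mk.injEq] at h
              obtain ⟨rfl, rfl⟩ := h
              refine ⟨_, _, _, rfl, ?_, hd⟩
              simp [Rel, val_app a x, prodw, mul_assoc]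
          · simp at heq
      | drop =>
        simp only [follow] at h
        split at h
        · simp at h
        · rename_i l₁ c heq
          split at heq
          · simp at heq
          · rename_i y r hr
            split at heq
            · rename_i hcond
              simp only [Option.some.injEq, Prod.mk.injEq] at heq
              obtain ⟨rfl, rfl⟩ := heq
              split at h
              · simp at h
              · rename_i m d hd
                simp only [Option.some.injEq, Prod.mk.injEq] at h
                obtain ⟨rfl, rfl⟩ := h
                refine ⟨_, _, _, rfl, ?_, hd⟩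
                have ha : a.2 = r.reverse ++ [y] := by
                  rw [← List.reverse_reverse a.2, hr, List.reverse_cons]
                simp [Rel, ha, prodw, hiv y hcond.1 hcond.2, mul_assoc]
            · simp at heq
      | fwd f =>
        simp only [follow] at h
        split at h
        · simp at h
        · rename_i l₁ c heq
          split at heq
          · simp at heq
          · rename_i q hq
            split at heq
            · rename_i hcond
              simp only [Option.some.injEq, Prod.mk.injEq] at heq
              obtain ⟨rfl, rfl⟩ := heq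
              split at h
              · simp at h
              · rename_i m d hd
                simp only [Option.some.injEq, Prod.mk.injEq] at h
                obtain ⟨rfl, rfl⟩ := h
                exact ⟨_, _, _, rfl, hcond ▸ hF q (List.mem_of_getElem? hq), hd⟩
            · simp at heq
      | bwd f =>
        simp only [follow] at h
        split at h
        · simp at h
        · rename_i l₁ c heq
          split at heq
          · simp at heq
          · rename_i q hq
            split at heq
            · rename_i hcond
              simp only [Option.some.injEq, Prod.mk.injEq] at heq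
              obtain ⟨rfl, rfl⟩ := heq
              split at h
              · simp at h
              · rename_i m d hd
                simp only [Option.some.injEq, Prod.mk.injEq] at h
                obtain ⟨rfl, rfl⟩ := h
                refine ⟨_, _, _, rfl, ?_, hd⟩
                rw [Rel, prodw_rev_iv g k iv hiv q.l hcond.2, ← hcond.1]
                simpa [Rel, mul_assoc] using H.inv_mem (hF q (List.mem_of_getElem? hq))
            · simp at heq
    have := H.mul_mem hc (ih c l₂ b hrest)
    subst hl
    simpa [Rel, prodw_append, mul_assoc] using this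

theorem derive1_sound {B : Nat} (hB : Inv g H k tb cr B) {F : List Fact}
    (hF : ∀ q ∈ F, Rel g H cr q.u q.l q.v) {D : Deriv} {f : Fact}
    (h : derive1 k tb iv wd nR nW B F D = some f) : Rel g H cr f.u f.l f.v := by
  unfold derive1 at h
  split at h
  · rename_i la u lb s w hA hBp hw
    split at h
    · rename_i hcond
      obtain ⟨rfl, hword⟩ := hcond
      simp only [Option.some.injEq] at h
      subst h
      have hA' := follow_sound hiv hB hF _ _ _ _ hA
      have hB' := follow_sound hiv hB hF _ _ _ _ hBp
      have hW : cr D.start.1 * prodw g D.start.2 * prodw g w *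
          (cr D.start.1 * prodw g D.start.2)⁻¹ ∈ H := by
        unfold relWord at hw
        split at hw
        · rename_i hr; cases hw; simp [hrel _ hr, H.one_mem]
        · split at hw
          · rename_i hr
            split at hw
            · rename_i hs; cases hw; simpa [hs, h0, prodw] using hsub _ hr
            · cases hw
          · split at hw
            · rename_i hr; cases hw
              simp [prodw, hiv _ hr.1 hr.2, H.one_mem]
            · split at hw
              · cases hw; simp [prodw, H.one_mem]
              · cases hw
      have := H.mul_mem (H.mul_mem (H.inv_mem hA') hW) (H.inv_mem hB')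
      rw [← hword, prodw_append, prodw_append] at this
      simpa [Rel, mul_assoc] using this
    · cases h
  · cases h

theorem deriveAll_sound {B : Nat} (hB : Inv g H k tb cr B) :
    ∀ (Ds : List Deriv) (F : List Fact), (∀ q ∈ F, Rel g H cr q.u q.l q.v) →
      ∀ q ∈ deriveAll k tb iv wd nR nW B Ds F, Rel g H cr q.u q.l q.v := by
  intro Ds
  induction Ds with
  | nil => intro F hF; exact hF
  | cons D Ds ih =>
    intro F hF
    rw [deriveAll]
    split
    · exact ih F hF
    · rename_i f hf
      refine ih _ fun q hq => ?_
      rcases List.mem_append.mp hq with hq | hq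
      · exact hF q hq
      · obtain rfl := List.mem_singleton.mp hq
        exact derive1_sound hiv h0 hrel hsub hB hF hf

theorem grant_sound {B : Nat} (hB : Inv g H k tb cr B) (Ds : List Deriv) (i x : Nat) (p : List PE) :
    Inv g H k tb cr (grant k tb iv wd nR nW B Ds i x p) := by
  unfold grant
  split
  · exact hB
  · rename_i l e he
    split
    · rename_i hc
      obtain ⟨hx, rfl, rfl⟩ := hc
      refine mark_sound hiv hB hx ?_
      have := follow_sound hiv hB (deriveAll_sound hiv h0 hrel hsub hB Ds [] (by simp)) _ _ _ _ he
      simpa [Rel, P, prodw, mul_assoc] using this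
    · exact hB

end Sound

end

end CfsgLib.CosetEnum
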