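import Cfsg.Agent.CosetEnum.Index
import Cfsg.Prelude.Def_SporCoxeter

set_option autoImplicit false

/-!
The coset-enumeration checker for the groups `Cfsg.Spor.CoxPresented` in which every generator is
a node of the graph, hence an involution.
-/

namespace CfsgLib.CosetEnum

open Cfsg.Spor

noncomputable section

variable {α : Type} [DecidableEq α]

theorem coxLabel_symm (edges : List (α × ℕ × α)) (x y : α) :
    coxLabel edges x y = coxLabel edges y x := by
  unfold coxLabel
  by_cases h : x = y
  · subst h; rfl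
  · rw [if_neg h, if_neg (Ne.symm h)]
    simp only [or_comm]

/-- The words of the Coxeter relators, one for each unordered pair of letters. -/
def coxWords (en : ℕ → α) (k : ℕ) (edges : List (α × ℕ × α)) : List (List ℕ) :=
  (List.range k).flatMap fun i => ((List.range k).filter fun j => decide (i ≤ j)).map fun j =>
    (List.replicate (coxLabel edges (en i) (en j)) [i, j]).flatten

theorem prodw_replicate {G : Type*} [Group G] (g : ℕ → G) (w : List ℕ) :
    ∀ m, prodw g (List.replicate m w).flatten = prodw g w ^ m := by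
  intro m
  induction m with
  | zero => simp [prodw]
  | succ m ih => rw [List.replicate_succ, List.flatten_cons, prodw_append, ih, pow_succ']

theorem mem_coxWords {en : ℕ → α} {k : ℕ} {edges : List (α × ℕ × α)} {w : List ℕ} :
    w ∈ coxWords en k edges ↔ ∃ i j, i < k ∧ j < k ∧ i ≤ j ∧
      (List.replicate (coxLabel edges (en i) (en j)) [i, j]).flatten = w := by
  simp only [coxWords, List.mem_flatMap, List.mem_range, List.mem_map, List.mem_filter,
    decide_eq_true_eq]
  constructor
  · rintro ⟨i, hi, j, ⟨hj, hij⟩, rfl⟩; exact ⟨i, j, hi, hj, hij, rfl⟩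
  · rintro ⟨i, j, hi, hj, hij, rfl⟩; exact ⟨i, hi, j, ⟨hj, hij⟩, rfl⟩

/-- The static part of a certificate for a Coxeter presentation. -/
structure Setup (α : Type) [DecidableEq α] where
  edges : List (α × ℕ × α)
  extra : List (FreeGroup α)
  k : ℕ
  en : ℕ → α
  ix : α → ℕ
  exW : List (List ℕ)
  words : List (List ℕ)
  en_ix : ∀ a, en (ix a) = a
  ix_lt : ∀ a, ix a < k
  ix_en : ∀ x, x < k → ix (en x) = x
  node : ∀ a, a ∈ coxNodes edges
  exW_eq : ∀ (K : Type) [Group K] (f : α → K), (∀ a, f a * f a = 1) →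
    extra.map (FreeGroup.lift f) = exW.map (prodw (f ∘ en))
  words_eq : words = coxWords en k edges ++ exW
  exW_lt : ∀ w ∈ exW, ∀ x ∈ w, x < k

namespace Setup

variable (S : Setup α)

/-- The presented group. -/
abbrev Grp : Type := CoxPresented α S.edges S.extra

/-- The letters as group elements. -/
def g (x : ℕ) : S.Grp := PresentedGroup.of (S.en x)

/-- The subgroup of some words in the free group. -/
abbrev sub (W : Set (FreeGroup α)) : Subgroup S.Grp :=
  (Subgroup.closure W).map (PresentedGroup.mk (coxRelators S.edges ∪ {r | r ∈ S.extra}))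

theorem of_sq (a : α) : (PresentedGroup.of a : S.Grp) * PresentedGroup.of a = 1 := by
  have := PresentedGroup.one_of_mem (rels := coxRelators S.edges ∪ {r | r ∈ S.extra})
    (x := (FreeGroup.of a * FreeGroup.of a) ^ coxLabel S.edges a a)
    (Or.inl ⟨a, S.node a, a, S.node a, rfl⟩)
  rw [show coxLabel S.edges a a = 1 by simp [coxLabel], pow_one, map_mul] at this
  exact this

theorem hiv (x : ℕ) (_hx : x < S.k) (_hx' : x < S.k) : S.g x = (S.g x)⁻¹ :=
  (inv_eq_of_mul_eq_one_right (S.of_sq _)).symm

theorem lift_of (w : FreeGroup α) :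
    FreeGroup.lift (PresentedGroup.of : α → S.Grp) w =
      PresentedGroup.mk (coxRelators S.edges ∪ {r | r ∈ S.extra}) w :=
  DFunLike.congr_fun (FreeGroup.ext_hom _ _ (fun a => by rw [FreeGroup.lift_apply_of]; rfl) :
    FreeGroup.lift (PresentedGroup.of : α → S.Grp) =
      PresentedGroup.mk (coxRelators S.edges ∪ {r | r ∈ S.extra})) w

theorem prod_mem (w : List ℕ) (hw : w ∈ S.words) : prodw S.g w = 1 := by
  rw [S.words_eq, List.mem_append] at hw
  rcases hw with hw | hw
  · obtain ⟨i, j, -, -, -, rfl⟩ := mem_coxWords.mp hw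
    rw [prodw_replicate]
    have := PresentedGroup.one_of_mem (rels := coxRelators S.edges ∪ {r | r ∈ S.extra})
      (x := (FreeGroup.of (S.en i) * FreeGroup.of (S.en j)) ^ coxLabel S.edges (S.en i) (S.en j))
      (Or.inl ⟨_, S.node _, _, S.node _, rfl⟩)
    rw [map_pow, map_mul] at this
    simp only [prodw, List.map_cons, List.map_nil, List.prod_cons, List.prod_nil, mul_one]
    exact this
  · have h := S.exW_eq S.Grp PresentedGroup.of S.of_sq
    have hm : prodw S.g w ∈ S.exW.map (prodw S.g) := List.mem_map_of_mem hw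
    have hg : (PresentedGroup.of : α → S.Grp) ∘ S.en = S.g := rfl
    rw [hg] at h
    rw [← h] at hm
    obtain ⟨r, hr, hr'⟩ := List.mem_map.mp hm
    rw [← hr', S.lift_of]
    exact PresentedGroup.one_of_mem (Or.inr hr)

/-- Products of generator words generate the subgroup. -/
theorem sub_eq (subs : List (FreeGroup α)) (sW : List (List ℕ))
    (hsW : ∀ (K : Type) [Group K] (f : α → K), (∀ a, f a * f a = 1) →
      subs.map (FreeGroup.lift f) = sW.map (prodw (f ∘ S.en))) :
    S.sub {w | w ∈ subs} =
      Subgroup.closure ((fun s => prodw S.g (sW.getD s [])) '' {s | s < sW.length}) := by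
  rw [sub, MonoidHom.map_closure]
  congr 1
  have h := hsW S.Grp PresentedGroup.of S.of_sq
  ext y
  constructor
  · rintro ⟨w, hw, rfl⟩
    have hm : FreeGroup.lift (PresentedGroup.of : α → S.Grp) w ∈ subs.map (FreeGroup.lift PresentedGroup.of) :=
      List.mem_map_of_mem hw
    rw [h] at hm
    obtain ⟨v, hv, hv'⟩ := List.mem_map.mp hm
    obtain ⟨s, hs, rfl⟩ := List.getElem_of_mem hv
    refine ⟨s, hs, ?_⟩
    show prodw S.g (sW.getD s []) = _
    rw [List.getD_eq_getElem _ _ hs, ← S.lift_of]
    exact hv'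
  · rintro ⟨s, hs, rfl⟩
    have hs' : s < sW.length := hs
    have hm : prodw S.g (sW.getD s []) ∈ sW.map (prodw ((PresentedGroup.of : α → S.Grp) ∘ S.en)) := by
      rw [List.getD_eq_getElem _ _ hs']
      exact List.mem_map_of_mem (List.getElem_mem hs')
    rw [← h] at hm
    obtain ⟨w, hw, hw'⟩ := List.mem_map.mp hm
    exact ⟨w, hw, (S.lift_of w).symm.trans hw'⟩

end Setup

/-- The data of an enumeration over a `Setup`: subgroup words, table and tree. -/
structure Enum (S : Setup α) where
  n : ℕ
  sW : List (List ℕ)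
  all : List (List ℕ)
  all_eq : all = S.words ++ sW
  sW_lt : ∀ w ∈ sW, ∀ x ∈ w, x < S.k
  tb : ℕ → ℕ
  parN : ℕ
  parX : ℕ

namespace Enum

variable {S : Setup α} (E : Enum S)

/-- The words, relators first. -/
def wd (r : ℕ) : List ℕ := E.all.getD r []

/-- The enumerated subgroup. -/
def H : Subgroup S.Grp :=
  Subgroup.closure ((fun s => prodw S.g (E.sW.getD s [])) '' {s | s < E.sW.length})

/-- Soundness invariant of this enumeration. -/
def Good (B : ℕ) : Prop := Inv S.g E.H S.k E.tb (crOf S.g E.parN E.parX) B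

theorem good_tree (d B : ℕ) (h : runTree S.k E.tb id E.parN E.parX d = B) : E.Good B :=
  h ▸ runTree_sound S.hiv (crOf_step S.g E.parN E.parX) d

theorem hrel (r : ℕ) (hr : r < S.words.length) : prodw S.g (E.wd r) = 1 := by
  apply S.prod_mem
  rw [wd, E.all_eq, List.getD_eq_getElem _ _ (by rw [List.length_append]; omega),
    List.getElem_append_left hr]
  exact List.getElem_mem hr

theorem hsub (r : ℕ) (hr : r < E.all.length) : prodw S.g (E.wd r) ∈ E.H := by
  by_cases h : r < S.words.length
  · rw [E.hrel r h]; exact one_mem _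
  · rw [E.all_eq, List.length_append] at hr
    refine Subgroup.subset_closure ⟨r - S.words.length, (show r - S.words.length < E.sW.length by omega), ?_⟩
    show prodw S.g (E.sW.getD (r - S.words.length) []) = prodw S.g (E.wd r)
    simp only [wd, E.all_eq]
    rw [List.getD_eq_getElem _ _ (show r - S.words.length < E.sW.length by omega),
      List.getD_eq_getElem _ _ (show r < (S.words ++ E.sW).length by rw [List.length_append]; omega),
      List.getElem_append_right (Nat.le_of_not_lt h)]

theorem good_ded (d steps nR nW B B' : ℕ) (hR : nR = S.words.length) (hW : nW = E.all.length)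
    (hB : E.Good B) (h : runDed S.k E.tb id E.wd nR nW d steps B = B') : E.Good B' := by
  subst h hR hW
  exact runDed_sound S.hiv (crOf_zero _ _ _) E.hrel E.hsub hB

theorem good_grant (Ds : List Deriv) (i x : ℕ) (p : List PE) (nR nW B B' : ℕ)
    (hR : nR = S.words.length) (hW : nW = E.all.length)
    (hB : E.Good B) (h : grant S.k E.tb id E.wd nR nW B Ds i x p = B') : E.Good B' := by
  subst h hR hW
  exact grant_sound S.hiv (crOf_zero _ _ _) E.hrel E.hsub hB Ds i x p

/-- The permutation of a letter. -/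
def perm (d : ℕ) (hd : E.n ≤ 2 ^ d) (hv : allR (validEntry E.n S.k E.tb id) d 0 = true)
    (hk : S.k ≤ 16) (x : ℕ) (hx : x < S.k) : Equiv.Perm (Fin E.n) :=
  have h : ∀ i : Fin E.n, T E.tb x i.val < E.n ∧ T E.tb x (T E.tb x i.val) = i.val := fun i => by
    have h1 := allR_spec d 0 hv i (Nat.zero_le _) (by omega)
    unfold validEntry at h1
    rw [show Nat.blt i.val E.n = true by simp] at h1
    simp only [cond_true] at h1
    have h2 := allR_spec 4 0 h1 x (Nat.zero_le _) (by show x < 0 + 2 ^ 4; omega)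
    rw [show Nat.blt x S.k = true by simpa using hx] at h2
    simp only [cond_true, Bool.and_eq_true, Nat.blt_eq, Nat.beq_eq] at h2
    exact h2
  { toFun := fun i => ⟨T E.tb x i.val, (h i).1⟩
    invFun := fun i => ⟨T E.tb x i.val, (h i).1⟩
    left_inv := fun i => Fin.ext (h i).2
    right_inv := fun i => Fin.ext (h i).2 }

theorem exists_action [NeZero E.n] (d B : ℕ) (hd : E.n ≤ 2 ^ d) (hk : S.k ≤ 16)
    (hB : E.Good B) (hfull : B = 2 ^ (E.n * S.k) - 1)
    (hv : allR (validEntry E.n S.k E.tb id) d 0 = true)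
    (htree : allR (treeOK E.n S.k E.tb E.parN E.parX) d 0 = true)
    (hfix : S.words.all (fun w => fixesAll E.n E.tb w d) = true)
    (hfix0 : E.sW.all (fun w => Nat.beq (walk E.tb w 0) 0) = true) :
    ∃ (φ : S.Grp →* Equiv.Perm (Fin E.n)) (e : S.Grp ⧸ E.H ≃ Fin E.n),
      (∀ (w : List ℕ), (∀ x ∈ w, x < S.k) → ∀ i : Fin E.n,
        ((φ (prodw S.g w))⁻¹ i).val = walk E.tb w i) ∧
      (∀ (y : S.Grp) (q : S.Grp ⧸ E.H), e (y • q) = φ y (e q)) ∧
      e ((1 : S.Grp) : S.Grp ⧸ E.H) = 0 := by
  let f : α → Equiv.Perm (Fin E.n) := fun a => E.perm d hd hv hk (S.ix a) (S.ix_lt a)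
  have hsq : ∀ a, f a * f a = 1 := fun a => Equiv.ext fun i => (f a).left_inv i
  have hwalk : ∀ (w : List ℕ), (∀ x ∈ w, x < S.k) → ∀ i : Fin E.n,
      ((prodw (f ∘ S.en) w)⁻¹ i).val = walk E.tb w i := by
    intro w
    induction w with
    | nil => intro _ i; rfl
    | cons x w ih =>
      intro hw i
      rw [prodw_cons, mul_inv_rev, Equiv.Perm.mul_apply, ih fun y hy => hw y (List.mem_cons_of_mem x hy)]
      show walk E.tb w _ = walk E.tb w (T E.tb x i)
      congr 1
      have : (f (S.en x))⁻¹ = f (S.en x) := inv_eq_of_mul_eq_one_right (hsq _)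
      show ((f (S.en x))⁻¹ i).val = _
      rw [this]
      show T E.tb (S.ix (S.en x)) i = _
      rw [S.ix_en x (hw x List.mem_cons_self)]
  have hone : ∀ w ∈ S.words, (∀ x ∈ w, x < S.k) → prodw (f ∘ S.en) w = 1 := by
    intro w hw hlt
    rw [← inv_eq_one]
    ext i
    rw [hwalk w hlt i]
    have h1 := allR_spec d 0 (List.all_eq_true.mp hfix w hw) i (Nat.zero_le _) (by omega)
    rw [show Nat.blt i.val E.n = true by simp] at h1
    simpa using h1
  have hrels : ∀ r ∈ coxRelators S.edges ∪ {r | r ∈ S.extra}, FreeGroup.lift f r = 1 := by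
    have hpair : ∀ i j, i < S.k → j < S.k → i ≤ j →
        (f (S.en i) * f (S.en j)) ^ coxLabel S.edges (S.en i) (S.en j) = 1 := by
      intro i j hi hj hij
      have := hone ((List.replicate (coxLabel S.edges (S.en i) (S.en j)) [i, j]).flatten) (by
        rw [S.words_eq]; exact List.mem_append_left _ (mem_coxWords.mpr ⟨i, j, hi, hj, hij, rfl⟩)) (by
        intro x hx
        simp only [List.mem_flatten, List.mem_replicate] at hx
        obtain ⟨l, ⟨-, rfl⟩, hx⟩ := hx
        rcases List.mem_pair.mp hx with rfl | rfl <;> assumption)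
      rw [prodw_replicate] at this
      simpa [prodw] using this
    rintro r (⟨a, -, b, -, rfl⟩ | hr)
    · rw [map_pow, map_mul, FreeGroup.lift_apply_of, FreeGroup.lift_apply_of]
      rcases le_total (S.ix a) (S.ix b) with h | h
      · have := hpair _ _ (S.ix_lt a) (S.ix_lt b) h
        rwa [S.en_ix, S.en_ix] at this
      · have := hpair _ _ (S.ix_lt b) (S.ix_lt a) h
        rw [S.en_ix, S.en_ix, coxLabel_symm] at this
        have h' : f a * f b = (f b * f a)⁻¹ := by
          rw [mul_inv_rev, inv_eq_of_mul_eq_one_right (hsq a), inv_eq_of_mul_eq_one_right (hsq b)]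
        rw [h', inv_pow, this, inv_one]
    · have hm : FreeGroup.lift f r ∈ S.extra.map (FreeGroup.lift f) := List.mem_map_of_mem hr
      rw [S.exW_eq _ f hsq] at hm
      obtain ⟨w, hw, hw'⟩ := List.mem_map.mp hm
      rw [← hw']
      exact hone w (by rw [S.words_eq]; exact List.mem_append_right _ hw) (S.exW_lt w hw)
  let φ : S.Grp →* Equiv.Perm (Fin E.n) := PresentedGroup.toGroup hrels
  have hφg : ∀ w, φ (prodw S.g w) = prodw (f ∘ S.en) w := fun w => by
    simp only [prodw, map_list_prod, List.map_map]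
    congr 1
  have hwalk' : ∀ (w : List ℕ), (∀ x ∈ w, x < S.k) → ∀ i : Fin E.n,
      ((φ (prodw S.g w))⁻¹ i).val = walk E.tb w i := fun w hw i => by rw [hφg]; exact hwalk w hw i
  have hH : ∀ h ∈ E.H, φ h 0 = 0 := by
    intro h hh
    induction hh using Subgroup.closure_induction with
    | mem y hy =>
      obtain ⟨s, hs, rfl⟩ := hy
      have hs' : s < E.sW.length := hs
      have hw : E.sW.getD s [] ∈ E.sW := by
        rw [List.getD_eq_getElem _ _ hs']; exact List.getElem_mem hs'
      have h0 := Nat.eq_of_beq_eq_true (List.all_eq_true.mp hfix0 _ hw)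
      have h1 : (φ (prodw S.g (E.sW.getD s [])))⁻¹ 0 = 0 :=
        Fin.ext ((hwalk' _ (E.sW_lt _ hw) 0).trans (by simpa using h0))
      exact (Equiv.Perm.inv_eq_iff_eq.mp h1).symm
    | one => simp
    | mul y z _ _ h1 h2 => rw [map_mul, Equiv.Perm.mul_apply, h2, h1]
    | inv y _ h1 => rw [map_inv, Equiv.Perm.inv_eq_iff_eq, h1]
  have hgen : Subgroup.closure (S.g '' {x | x < S.k}) = ⊤ := by
    rw [eq_top_iff, ← PresentedGroup.closure_range_of]
    refine Subgroup.closure_mono ?_
    rintro _ ⟨a, rfl⟩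
    exact ⟨S.ix a, S.ix_lt a, by rw [Setup.g, S.en_ix]⟩
  obtain ⟨e, he, he0⟩ := exists_equiv hfull hB hd htree φ
    (fun x hx i => by
      have := hwalk' [x] (by simpa using hx) i
      rw [show prodw S.g [x] = S.g x by simp [prodw]] at this
      exact this) hgen hH
  exact ⟨φ, e, hwalk', he, he0⟩

/-- The index of the enumerated subgroup. -/
theorem index_H (e : S.Grp ⧸ E.H ≃ Fin E.n) : E.H.index = E.n := index_eq (e := e)

/-- An orbit of the enumerated subgroup on its cosets. -/
theorem orbit_card (φ : S.Grp →* Equiv.Perm (Fin E.n)) (e : S.Grp ⧸ E.H ≃ Fin E.n)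
    (hφ : ∀ (w : List ℕ), (∀ x ∈ w, x < S.k) → ∀ i : Fin E.n,
      ((φ (prodw S.g w))⁻¹ i).val = walk E.tb w i)
    (he : ∀ (y : S.Grp) (q : S.Grp ⧸ E.H), e (y • q) = φ y (e q))
    (hns : E.sW.length ≤ 16) {d dR steps : ℕ} (hd : E.n ≤ 2 ^ d) (i0 : Fin E.n) (R m : ℕ)
    (hR : reach E.tb (fun s => E.sW.getD s []) dR steps i0 = R)
    (hclosed : allR (closedEntry E.n E.sW.length E.tb (fun s => E.sW.getD s []) R) d 0 = true)
    (hcnt : cntR (fun j => bit R j) d 0 = m) (hlt : R < 2 ^ E.n) :
    (MulAction.orbit E.H (e.symm i0)).ncard = m ∧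
      ∀ j : Fin E.n, bit R j.val = false → MulAction.orbit E.H (e.symm i0) ≠ MulAction.orbit E.H (e.symm j) :=
  orbit_ncard φ _ _ (fun s => prodw S.g (E.sW.getD s [])) rfl
    (fun s hs i => hφ _ (E.sW_lt _ (by
      rw [List.getD_eq_getElem _ _ hs]; exact List.getElem_mem hs)) i)
    hns (fun s hs => List.getD_eq_default _ _ hs) hd i0 R m hR hclosed hcnt hlt e he

end Enum

end

end CfsgLib.CosetEnum
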