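import Cfsg.Agent.CosetEnum.Cox

set_option autoImplicit false

/-! The tree marks of an enumeration of a whole presented group, checked block by block. -/

namespace CfsgLib.CosetEnum.Enum

variable {α : Type} [DecidableEq α] {S : Setup α} (E : Enum S)

theorem good_zero : E.Good 0 := inv_zero _ _ _ _ _

theorem good_tree_block (d lo B B' : ℕ) (hB : E.Good B)
    (h : foldR (tree S.k E.tb id E.parN E.parX) d lo B = B') : E.Good B' := by
  subst h
  refine foldR_induction (fun i B hB => ?_) d lo B hB
  unfold tree
  cases hc : (Nat.blt (ext E.parN i) i && Nat.blt (ext E.parX i) S.k &&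
      Nat.beq (T E.tb (ext E.parX i) (ext E.parN i)) i)
  · exact hB
  simp only [cond_true]
  simp only [Bool.and_eq_true, Nat.blt_eq, Nat.beq_eq] at hc
  refine mark_sound S.hiv hB hc.1.2 ?_
  show crOf S.g E.parN E.parX (ext E.parN i) * S.g (ext E.parX i) *
    (crOf S.g E.parN E.parX (T E.tb (ext E.parX i) (ext E.parN i)))⁻¹ ∈ E.H
  rw [hc.2, crOf_step S.g E.parN E.parX i hc.1.1, mul_inv_cancel]
  exact Subgroup.one_mem _

end CfsgLib.CosetEnum.Enum
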