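import Cfsg.Agent.CosetEnum.Engine
import Cfsg.Agent.CosetEnum.Index

set_option autoImplicit false

/-!
Lower bounds for the order of the image of a permutation representation from a base and certified
strong elements.
-/

namespace CfsgLib.CosetEnum

noncomputable section

variable {G : Type*} [Group G] {n : ℕ} (φ : G →* Equiv.Perm (Fin n))

/-- A packed table is the action of some group element. -/
def IsImg (A : ℕ) : Prop := ∃ y : G, ∀ i : Fin n, ((φ y)⁻¹ i).val = ext A i

/-- Check that `C` is `A` followed by `B`. -/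
def compEntry (n A B C i : ℕ) : Bool :=
  bif Nat.blt i n then Nat.beq (ext B (ext A i)) (ext C i) else true

variable {φ}

theorem IsImg.comp {A B C d : ℕ} (hA : IsImg φ A) (hB : IsImg φ B) (hd : n ≤ 2 ^ d)
    (h : allR (compEntry n A B C) d 0 = true) : IsImg φ C := by
  obtain ⟨a, ha⟩ := hA
  obtain ⟨b, hb⟩ := hB
  refine ⟨a * b, fun i => ?_⟩
  have h1 := allR_spec d 0 h i (Nat.zero_le _) (by omega)
  unfold compEntry at h1
  rw [show Nat.blt i.val n = true by simp] at h1
  simp only [cond_true] at h1
  rw [map_mul, mul_inv_rev, Equiv.Perm.mul_apply, hb, ha]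
  exact Nat.eq_of_beq_eq_true h1

variable (φ)

/-- Elements of the image fixing some points. -/
def fixK (bs : List ℕ) : Subgroup (Equiv.Perm (Fin n)) where
  carrier := {p | p ∈ φ.range ∧ ∀ i : Fin n, i.val ∈ bs → p i = i}
  one_mem' := ⟨one_mem _, fun i _ => rfl⟩
  mul_mem' := fun {p q} hp hq => ⟨mul_mem hp.1 hq.1, fun i hi => by
    rw [Equiv.Perm.mul_apply, hq.2 i hi, hp.2 i hi]⟩
  inv_mem' := fun {p} hp => ⟨inv_mem hp.1, fun i hi => by
    rw [Equiv.Perm.inv_eq_iff_eq, hp.2 i hi]⟩

theorem card_range_ge (m : ℕ) (h : m ≤ Nat.card (fixK φ [])) : m ≤ Nat.card φ.range := by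
  refine h.trans (Nat.le_of_eq (congrArg (fun K : Subgroup _ => Nat.card K) ?_))
  ext p
  exact ⟨fun hp => hp.1, fun hp => ⟨hp, fun i hi => absurd hi List.not_mem_nil⟩⟩

theorem one_le_card_fixK (bs : List ℕ) : 1 ≤ Nat.card (fixK φ bs) := Nat.one_le_iff_ne_zero.mpr Nat.card_pos.ne'

variable {φ}

/-- One level of the chain. -/
theorem level {bs : List ℕ} {b m m' d dR steps R ns : ℕ} (tbs : ℕ → ℕ) (hd : n ≤ 2 ^ d)
    (hb : b < n)
    (himg : ∀ s, s < ns → IsImg φ (tbs s))
    (hfix : ∀ s, s < ns → (bs.all fun i => Nat.beq (ext (tbs s) i) i) = true)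
    (hR : reach tbs (fun s => if s < ns then [s] else []) dR steps b = R)
    (hcnt : cntR (fun j => bit R j) d 0 = m)
    (hlt : R < 2 ^ n)
    (hrest : m' ≤ Nat.card (fixK φ (b :: bs))) : m * m' ≤ Nat.card (fixK φ bs) := by
  set K := fixK φ bs with hK
  let b' : Fin n := ⟨b, hb⟩
  have hout : ∀ j, bit R j = true → ∃ p ∈ K, (p b').val = j := by
    rw [← hR]
    refine foldR_induction (Q := fun R => ∀ j, bit R j = true → ∃ p ∈ K, (p b').val = j)
      (fun t R hQ => ?_) dR 0 _ ?_
    · unfold reach1
      generalize Nat.land (Nat.shiftRight steps (Nat.mul stepWidth t)) stepMask = st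
      generalize Nat.shiftRight st 8 = src
      generalize Nat.land st 255 = s
      cases hbit : bit R src
      · exact hQ
      simp only [cond_true]
      intro j hj
      rw [bit_eq] at hj
      change Nat.testBit (R ||| 1 <<< walk tbs (if s < ns then [s] else []) src) j = true at hj
      simp only [Nat.testBit_or, Nat.one_shiftLeft, Nat.testBit_two_pow, Bool.or_eq_true,
        decide_eq_true_eq] at hj
      rcases hj with hj | hj
      · exact hQ j (by rw [bit_eq]; exact hj)
      · obtain ⟨p, hp, hsrc⟩ := hQ src hbit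
        by_cases hs : s < ns
        · rw [if_pos hs] at hj
          obtain ⟨y, hy⟩ := himg s hs
          have hyK : (φ y)⁻¹ ∈ K := ⟨inv_mem ⟨y, rfl⟩, fun i hi => Fin.ext (by
            rw [hy i]; exact Nat.eq_of_beq_eq_true (List.all_eq_true.mp (hfix s hs) _ hi))⟩
          refine ⟨(φ y)⁻¹ * p, mul_mem hyK hp, ?_⟩
          rw [Equiv.Perm.mul_apply, hy, hsrc, ← hj]
          rfl
        · rw [if_neg hs] at hj
          exact ⟨p, hp, hsrc.trans hj⟩
    · intro j hj
      rw [bit_eq] at hj
      change Nat.testBit (1 <<< b) j = true at hj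
      simp only [Nat.one_shiftLeft, Nat.testBit_two_pow, decide_eq_true_eq] at hj
      exact ⟨1, one_mem _, hj⟩
  have horbit : m ≤ Nat.card (MulAction.orbit K b') := by
    rw [← hcnt, cntR_spec, zero_add]
    have hmaps : ∀ j ∈ (Finset.Ico 0 (2 ^ d)).filter (fun j => bit R j = true), j < n := by
      intro j hj
      rw [Finset.mem_filter] at hj
      by_contra hn
      rw [bit_eq, Nat.testBit_lt_two_pow (lt_of_lt_of_le hlt (Nat.pow_le_pow_right (by norm_num)
        (Nat.le_of_not_lt hn)))] at hj
      exact Bool.false_ne_true hj.2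
    rw [Nat.card_coe_set_eq, ← Set.ncard_coe_finset,
      ← Set.ncard_image_of_injective (MulAction.orbit K b') Fin.val_injective]
    refine Set.ncard_le_ncard ?_ ((Set.toFinite _).image _)
    intro j hj
    obtain ⟨p, hp, hpj⟩ := hout j (Finset.mem_filter.mp hj).2
    exact ⟨p b', ⟨⟨p, hp⟩, rfl⟩, hpj⟩
  have hstab : Nat.card (fixK φ (b :: bs)) = Nat.card (MulAction.stabilizer K b') := by
    refine Nat.card_congr
      { toFun := fun p => ⟨⟨p.1, p.2.1, fun i hi => p.2.2 i (List.mem_cons_of_mem b hi)⟩,
          p.2.2 b' List.mem_cons_self⟩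
        invFun := fun p => ⟨p.1.1, p.1.2.1, fun i hi => by
          rcases List.mem_cons.mp hi with h | h
          · rw [show i = b' from Fin.ext h]; exact p.2
          · exact p.1.2.2 i h⟩
        left_inv := fun p => rfl
        right_inv := fun p => rfl }
  calc m * m' ≤ Nat.card (MulAction.orbit K b') * Nat.card (MulAction.stabilizer K b') :=
        Nat.mul_le_mul horbit (hstab ▸ hrest)
    _ = Nat.card K := by
        rw [← Nat.card_prod]
        exact Nat.card_congr (MulAction.orbitProdStabilizerEquivGroup K b')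

/-- Upper and lower bounds agree: the order, and faithfulness. -/
theorem card_eq_and_injective [Finite G] {N : ℕ} (hle : Nat.card G ≤ N) (hge : N ≤ Nat.card φ.range) :
    Nat.card G = N ∧ Function.Injective φ := by
  have h1 : Nat.card φ.range ≤ Nat.card G := Nat.card_le_card_of_surjective _ φ.rangeRestrict_surjective
  refine ⟨le_antisymm hle (hge.trans h1), ?_⟩
  have hb : Function.Bijective φ.rangeRestrict :=
    (Nat.bijective_iff_surjective_and_card _).mpr ⟨φ.rangeRestrict_surjective, by omega⟩
  exact fun a b h => hb.1 (Subtype.ext h)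

end

end CfsgLib.CosetEnum
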