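import Cfsg.Agent.CosetEnum.Upper
import Cfsg.Agent.CosetEnum.Lower

set_option autoImplicit false

/-!
Simplicity from a primitive coset action, a prime dividing the degree, and a certificate that the
normal closure of a suitable element of that order contains all generators.
-/

namespace CfsgLib.CosetEnum

open scoped Pointwise

noncomputable section

variable {G : Type*} [Group G] {n : ℕ} (φ : G →* Equiv.Perm (Fin n))

/-- A packed table is the action of some element of `N`. -/
def IsImgIn (N : Subgroup G) (A : ℕ) : Prop := ∃ y ∈ N, ∀ i : Fin n, ((φ y)⁻¹ i).val = ext A i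

/-- Check that `B` is `A` conjugated by the involution `X`. -/
def conjEntry (n X A B i : ℕ) : Bool :=
  bif Nat.blt i n then Nat.beq (ext X (ext A (ext X i))) (ext B i) else true

/-- Check that `A` is the table of a word. -/
def wordEntry (n : ℕ) (tb : ℕ → ℕ) (w : List ℕ) (A i : ℕ) : Bool :=
  bif Nat.blt i n then Nat.beq (walk tb w i) (ext A i) else true

/-- Check that two tables agree. -/
def sameEntry (n A B i : ℕ) : Bool :=
  bif Nat.blt i n then Nat.beq (ext A i) (ext B i) else true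

/-- Is `i` the base point or in one of the chosen sets? -/
def memberOf (Rs : List ℕ) (m i : ℕ) : Bool :=
  Nat.beq i 0 || List.rec (fun _ => false) (fun R _ ih m => (bit m 0 && bit R i) || ih (Nat.shiftRight m 1)) Rs m

variable {φ}

theorem IsImgIn.comp {N : Subgroup G} {A B C d : ℕ} (hA : IsImgIn φ N A) (hB : IsImgIn φ N B)
    (hd : n ≤ 2 ^ d) (h : allR (compEntry n A B C) d 0 = true) : IsImgIn φ N C := by
  obtain ⟨a, haN, ha⟩ := hA
  obtain ⟨b, hbN, hb⟩ := hB
  refine ⟨a * b, mul_mem haN hbN, fun i => ?_⟩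
  have h1 := allR_spec d 0 h i (Nat.zero_le _) (by omega)
  unfold compEntry at h1
  rw [show Nat.blt i.val n = true by simp] at h1
  simp only [cond_true] at h1
  rw [map_mul, mul_inv_rev, Equiv.Perm.mul_apply, hb, ha]
  exact Nat.eq_of_beq_eq_true h1

theorem IsImgIn.conj {N : Subgroup G} [N.Normal] {A B X d : ℕ} (hA : IsImgIn φ N A) (u : G)
    (hu : u = u⁻¹) (hX : ∀ i : Fin n, ((φ u)⁻¹ i).val = ext X i) (hd : n ≤ 2 ^ d)
    (h : allR (conjEntry n X A B) d 0 = true) : IsImgIn φ N B := by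
  obtain ⟨a, haN, ha⟩ := hA
  refine ⟨u * a * u, ?_, fun i => ?_⟩
  · have := ‹N.Normal›.conj_mem a haN u
    rwa [← hu] at this
  have h1 := allR_spec d 0 h i (Nat.zero_le _) (by omega)
  unfold conjEntry at h1
  rw [show Nat.blt i.val n = true by simp] at h1
  simp only [cond_true] at h1
  rw [map_mul, map_mul, mul_inv_rev, mul_inv_rev, Equiv.Perm.mul_apply, Equiv.Perm.mul_apply, hX, ha, hX]
  exact Nat.eq_of_beq_eq_true h1

theorem IsImgIn.of_word {N : Subgroup G} {tb : ℕ → ℕ} {w : List ℕ} {A d : ℕ} {y : G} (hy : y ∈ N)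
    (hw : ∀ i : Fin n, ((φ y)⁻¹ i).val = walk tb w i) (hd : n ≤ 2 ^ d)
    (h : allR (wordEntry n tb w A) d 0 = true) : IsImgIn φ N A := by
  refine ⟨y, hy, fun i => ?_⟩
  have h1 := allR_spec d 0 h i (Nat.zero_le _) (by omega)
  unfold wordEntry at h1
  rw [show Nat.blt i.val n = true by simp] at h1
  simp only [cond_true] at h1
  rw [hw]
  exact Nat.eq_of_beq_eq_true h1

theorem mem_of_isImgIn {N : Subgroup G} {A B d : ℕ} (hinj : Function.Injective φ) (hA : IsImgIn φ N A)
    (u : G) (hu : ∀ i : Fin n, ((φ u)⁻¹ i).val = ext B i) (hd : n ≤ 2 ^ d)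
    (h : allR (sameEntry n A B) d 0 = true) : u ∈ N := by
  obtain ⟨a, haN, ha⟩ := hA
  convert haN
  apply hinj
  apply inv_injective
  ext i
  have h1 := allR_spec d 0 h i (Nat.zero_le _) (by omega)
  unfold sameEntry at h1
  rw [show Nat.blt i.val n = true by simp] at h1
  simp only [cond_true] at h1
  rw [hu, ha]
  exact (Nat.eq_of_beq_eq_true h1).symm

theorem reach_mem {H : Subgroup G} {tb : ℕ → ℕ} (sw : ℕ → List ℕ) (ns : ℕ) (gs : ℕ → G)
    (hgs : ∀ s, s < ns → gs s ∈ H) (hsw : ∀ s, s < ns → ∀ i : Fin n, ((φ (gs s))⁻¹ i).val = walk tb (sw s) i)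
    (hpad : ∀ s, ns ≤ s → sw s = []) {dR steps : ℕ} (i0 : Fin n) {R : ℕ}
    (hR : reach tb sw dR steps i0 = R) :
    ∀ j, bit R j = true → ∃ h ∈ H, ((φ h)⁻¹ i0).val = j := by
  rw [← hR]
  refine foldR_induction (Q := fun R => ∀ j, bit R j = true → ∃ h ∈ H, ((φ h)⁻¹ i0).val = j)
    (fun t R hQ => ?_) dR 0 _ ?_
  · unfold reach1
    generalize Nat.land (Nat.shiftRight steps (Nat.mul stepWidth t)) stepMask = st
    generalize Nat.shiftRight st 8 = src
    generalize Nat.land st 255 = s
    cases hb : bit R src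
    · exact hQ
    simp only [cond_true]
    intro j hj
    rw [bit_eq] at hj
    change Nat.testBit (R ||| 1 <<< walk tb (sw s) src) j = true at hj
    simp only [Nat.testBit_or, Nat.one_shiftLeft, Nat.testBit_two_pow, Bool.or_eq_true,
      decide_eq_true_eq] at hj
    rcases hj with hj | hj
    · exact hQ j (by rw [bit_eq]; exact hj)
    · obtain ⟨h, hh, hsrc⟩ := hQ src hb
      by_cases hs : s < ns
      · refine ⟨h * gs s, mul_mem hh (hgs s hs), ?_⟩
        rw [map_mul, mul_inv_rev, Equiv.Perm.mul_apply, hsw s hs, hsrc, hj]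
      · rw [hpad s (Nat.le_of_not_lt hs)] at hj
        exact ⟨h, hh, hsrc.trans hj⟩
  · intro j hj
    rw [bit_eq] at hj
    change Nat.testBit (1 <<< i0.val) j = true at hj
    simp only [Nat.one_shiftLeft, Nat.testBit_two_pow, decide_eq_true_eq] at hj
    exact ⟨1, H.one_mem, by simpa using hj⟩

theorem memberOf_iff : ∀ (Rs : List ℕ) (m i : ℕ), memberOf Rs m i = true ↔
    i = 0 ∨ ∃ o, ∃ ho : o < Rs.length, bit m o = true ∧ bit Rs[o] i = true := by
  intro Rs
  induction Rs with
  | nil => intro m i; simp [memberOf]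
  | cons R Rs ih =>
    intro m i
    have hstep : memberOf (R :: Rs) m i = true ↔
        (bit m 0 = true ∧ bit R i = true) ∨ memberOf Rs (m >>> 1) i = true := by
      simp only [memberOf, Bool.or_eq_true, Bool.and_eq_true]
      show _ ∨ _ ∨ _ ↔ _ ∨ _ ∨ _
      tauto
    rw [hstep, ih]
    have hb : ∀ o, bit (m >>> 1) o = bit m (o + 1) := fun o => by
      rw [bit_eq, bit_eq, Nat.testBit_shiftRight, add_comm]
    constructor
    · rintro (⟨h1, h2⟩ | h | ⟨o, ho, h1, h2⟩)
      · exact Or.inr ⟨0, Nat.succ_pos _, h1, h2⟩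
      · exact Or.inl h
      · exact Or.inr ⟨o + 1, Nat.succ_lt_succ ho, by rwa [← hb], by simpa using h2⟩
    · rintro (h | ⟨o, ho, h1, h2⟩)
      · exact Or.inr (Or.inl h)
      · cases o with
        | zero => exact Or.inl ⟨h1, h2⟩
        | succ o => exact Or.inr (Or.inr ⟨o, Nat.lt_of_succ_lt_succ ho, by rwa [hb], by simpa using h2⟩)

variable (φ)

/-- The sizes of unions of suborbits containing the base point admit no proper block. -/
def noBlock (n d : ℕ) (Rs : List ℕ) (m : ℕ) : Bool :=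
  !Nat.beq (Nat.mod n (cntR (fun i => Nat.blt i n && memberOf Rs m i) d 0)) 0 ||
    (Nat.beq (cntR (fun i => Nat.blt i n && memberOf Rs m i) d 0) 1 ||
      Nat.beq (cntR (fun i => Nat.blt i n && memberOf Rs m i) d 0) n)

theorem eq_or_eq_top_of_le [NeZero n] [Finite G] {H : Subgroup G} (e : G ⧸ H ≃ Fin n)
    (he : ∀ (y : G) (q : G ⧸ H), e (y • q) = φ y (e q)) (he0 : e ((1 : G) : G ⧸ H) = 0) (Rs : List ℕ)
    (hRs : ∀ o (ho : o < Rs.length), ∃ i0 : Fin n, ∀ j, bit Rs[o] j = true →
      ∃ h ∈ H, ((φ h)⁻¹ i0).val = j)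
    {d : ℕ} (hd : n ≤ 2 ^ d)
    (hcover : allR (fun i => bif Nat.blt i n then memberOf Rs (2 ^ Rs.length - 1) i else true) d 0 = true)
    (hblock : ∀ m, m < 2 ^ Rs.length → noBlock n d Rs m = true)
    {K : Subgroup G} (hK : H ≤ K) : K = H ∨ K = ⊤ := by
  classical
  let S : Finset (Fin n) := Finset.univ.filter fun i => ∃ y ∈ K, φ y 0 = i
  have hinv : ∀ h ∈ H, ∀ i : Fin n, (∃ y ∈ K, φ y 0 = i) → ∃ y ∈ K, φ y 0 = φ h i := by
    rintro h hh i ⟨y, hy, rfl⟩
    exact ⟨h * y, mul_mem (hK hh) hy, by rw [map_mul, Equiv.Perm.mul_apply]⟩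
  choose rep hrep using hRs
  have hsame : ∀ o ho j, bit Rs[o] j = true → ∀ hj : j < n,
      ((∃ y ∈ K, φ y 0 = ⟨j, hj⟩) ↔ ∃ y ∈ K, φ y 0 = rep o ho) := by
    intro o ho j hbit hj
    obtain ⟨h, hh, hval⟩ := hrep o ho j hbit
    have hi : (φ h)⁻¹ (rep o ho) = ⟨j, hj⟩ := Fin.ext hval
    constructor
    · intro hy
      have := hinv h hh _ hy
      rwa [← hi, Equiv.Perm.inv_def, Equiv.apply_symm_apply] at this
    · intro hy
      have := hinv h⁻¹ (inv_mem hh) _ hy
      rwa [map_inv, hi] at this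
  obtain ⟨m, hm, hmem⟩ : ∃ m, m < 2 ^ Rs.length ∧ ∀ o (ho : o < Rs.length),
      bit m o = true ↔ ∃ y ∈ K, φ y 0 = rep o ho := by
    refine ⟨(∑ o ∈ (Finset.range Rs.length).filter (fun o => ∃ ho : o < Rs.length, ∃ y ∈ K, φ y 0 = rep o ho), 2 ^ o), ?_, ?_⟩
    · calc _ ≤ ∑ o ∈ Finset.range Rs.length, 2 ^ o := Finset.sum_le_sum_of_subset (Finset.filter_subset _ _)
        _ < 2 ^ Rs.length := Nat.geomSum_lt (le_refl 2) fun o ho => Finset.mem_range.mp ho
    · intro o ho
      rw [bit_eq, ← Nat.mem_bitIndices, ← List.mem_toFinset, Finset.toFinset_bitIndices_twoPowSum]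
      simp [ho]
  have hS : ∀ i : Fin n, i ∈ S ↔ memberOf Rs m i.val = true := by
    intro i
    rw [memberOf_iff]
    simp only [S, Finset.mem_filter, Finset.mem_univ, true_and]
    constructor
    · intro hy
      have hc := allR_spec d 0 hcover i (Nat.zero_le _) (by omega)
      rw [show Nat.blt i.val n = true by simp] at hc
      rcases (memberOf_iff Rs _ _).mp hc with h | ⟨o, ho, -, h⟩
      · exact Or.inl h
      · exact Or.inr ⟨o, ho, (hmem o ho).mpr ((hsame o ho i.val h i.2).mp hy), h⟩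
    · rintro (h | ⟨o, ho, h1, h2⟩)
      · exact ⟨1, one_mem _, by rw [map_one, Equiv.Perm.one_apply]; exact (Fin.ext (by simpa using h)).symm⟩
      · exact (hsame o ho i.val h2 i.2).mpr ((hmem o ho).mp h1)
  have hcnt : cntR (fun i => Nat.blt i n && memberOf Rs m i) d 0 = S.card := by
    rw [cntR_spec, zero_add, ← Finset.card_map Fin.valEmbedding]
    congr 1
    ext j
    simp only [Finset.mem_filter, Finset.mem_Ico, Finset.mem_map, Bool.and_eq_true, Nat.blt_eq,
      Fin.valEmbedding_apply]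
    constructor
    · rintro ⟨-, hj, hj'⟩
      exact ⟨⟨j, hj⟩, (hS _).mpr hj', rfl⟩
    · rintro ⟨i, hi, rfl⟩
      exact ⟨⟨Nat.zero_le _, by omega⟩, i.2, (hS i).mp hi⟩
  have heq : ∀ y : G, e (y : G ⧸ H) = φ y 0 := fun y => by
    rw [← he0, ← he y ((1 : G) : G ⧸ H), MulAction.Quotient.smul_coe, smul_eq_mul, mul_one]
  have hKy : ∀ y, φ y 0 ∈ S → y ∈ K := by
    intro y hy
    obtain ⟨z, hz, hzy⟩ := (Finset.mem_filter.mp hy).2
    have : (z : G ⧸ H) = y := e.injective (by rw [heq, heq, hzy])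
    have := K.mul_mem hz (hK (QuotientGroup.eq.mp this))
    rwa [mul_inv_cancel_left] at this
  have hcard : Nat.card K = S.card * Nat.card H := by
    have h1 : Nat.card (K ⧸ H.subgroupOf K) = S.card := by
      rw [← Nat.card_eq_finsetCard]
      refine Nat.card_congr (Equiv.ofBijective
        (fun q => Quotient.liftOn' q (fun y : K => (⟨φ y 0, Finset.mem_filter.mpr ⟨Finset.mem_univ _, y, y.2, rfl⟩⟩ : S))
          fun a b hab => ?_) ⟨?_, ?_⟩)
      · rw [QuotientGroup.leftRel_apply, Subgroup.mem_subgroupOf] at hab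
        exact Subtype.ext ((heq _).symm.trans
          ((congrArg e (QuotientGroup.eq.mpr (by simpa using hab))).trans (heq _)))
      · intro q r hqr
        induction q using QuotientGroup.induction_on with
        | H a =>
          induction r using QuotientGroup.induction_on with
          | H b =>
            have h2 : φ (a : G) 0 = φ (b : G) 0 := congrArg Subtype.val hqr
            rw [← heq, ← heq] at h2
            rw [QuotientGroup.eq, Subgroup.mem_subgroupOf]
            simpa using QuotientGroup.eq.mp (e.injective h2)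
      · rintro ⟨i, hi⟩
        obtain ⟨y, hy, rfl⟩ := (Finset.mem_filter.mp hi).2
        exact ⟨((⟨y, hy⟩ : K) : K ⧸ H.subgroupOf K), rfl⟩
    rw [Subgroup.card_eq_card_quotient_mul_card_subgroup (H.subgroupOf K), h1,
      Nat.card_congr (Subgroup.subgroupOfEquivOfLe hK).toEquiv]
  have hGH : Nat.card G = n * Nat.card H := by
    rw [Subgroup.card_eq_card_quotient_mul_card_subgroup H, Nat.card_congr e, Nat.card_fin]
  have hdvd : S.card ∣ n := by
    have h1 := Subgroup.card_subgroup_dvd_card K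
    rw [hcard, hGH] at h1
    exact Nat.dvd_of_mul_dvd_mul_right Nat.card_pos h1
  have hb := hblock m hm
  unfold noBlock at hb
  rw [hcnt] at hb
  simp only [Bool.or_eq_true, Bool.not_eq_true', Nat.beq_eq] at hb
  rcases hb with hb | hb | hb
  · exact absurd hb (by
      rw [show Nat.mod n S.card = 0 from Nat.mod_eq_zero_of_dvd hdvd]
      exact Bool.noConfusion)
  · left
    refine le_antisymm (fun y hy => ?_) hK
    have hy0 : φ y 0 ∈ S := Finset.mem_filter.mpr ⟨Finset.mem_univ _, y, hy, rfl⟩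
    have h0 : (0 : Fin n) ∈ S := (hS 0).mpr (by simp [memberOf])
    have := Finset.card_le_one.mp hb.le _ hy0 _ h0
    have h2 : e (y : G ⧸ H) = e ((1 : G) : G ⧸ H) := by rw [heq, this, he0]
    simpa using QuotientGroup.eq.mp (e.injective h2).symm
  · right
    refine eq_top_iff.mpr fun y _ => hKy y ?_
    have : S = Finset.univ := Finset.eq_univ_of_card S (by rw [hb, Fintype.card_fin])
    rw [this]
    exact Finset.mem_univ _

variable {φ}

theorem dvd_card_normal [NeZero n] [Finite G] {H : Subgroup G} (e : G ⧸ H ≃ Fin n)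
    (he : ∀ (y : G) (q : G ⧸ H), e (y • q) = φ y (e q)) (hinj : Function.Injective φ)
    (hmax : ∀ K : Subgroup G, H ≤ K → K = H ∨ K = ⊤) (N : Subgroup G) [N.Normal] (hN : N ≠ ⊥) :
    n ∣ Nat.card N := by
  rcases hmax (N ⊔ H) le_sup_right with h | h
  · refine absurd ((Subgroup.eq_bot_iff_forall _).mpr fun y hy => hinj ?_) hN
    rw [map_one]
    ext i
    obtain ⟨q, rfl⟩ := e.surjective i
    induction q using QuotientGroup.induction_on with
    | H g =>
      rw [Equiv.Perm.one_apply, ← he, MulAction.Quotient.smul_coe, smul_eq_mul]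
      refine congrArg Fin.val (congrArg e ?_)
      rw [QuotientGroup.eq]
      have h2 : g⁻¹ * y⁻¹ * g⁻¹⁻¹ ∈ H :=
        h ▸ Subgroup.mem_sup_left (‹N.Normal›.conj_mem y⁻¹ (inv_mem hy) g⁻¹)
      simpa [mul_assoc] using h2
  · let q0 : G ⧸ H := ((1 : G) : G ⧸ H)
    have horb : MulAction.orbit N q0 = Set.univ := by
      refine Set.eq_univ_of_forall fun q => ?_
      induction q using QuotientGroup.induction_on with
      | H g =>
        obtain ⟨a, ha, b, hb, hab⟩ : g ∈ (N : Set G) * (H : Set G) := by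
          rw [← Subgroup.normal_mul, h]; exact Set.mem_univ _
        refine ⟨⟨a, ha⟩, ?_⟩
        show (a • q0) = _
        rw [MulAction.Quotient.smul_coe, smul_eq_mul, mul_one, QuotientGroup.eq]
        have hbH : b ∈ H := hb
        simpa [← hab] using hbH
    have h1 := Nat.card_congr (MulAction.orbitProdStabilizerEquivGroup N q0)
    rw [Nat.card_prod, Nat.card_coe_set_eq, horb, Set.ncard_univ, Nat.card_congr e, Nat.card_fin] at h1
    exact h1 ▸ Nat.dvd_mul_right _ _

/-- A normal subgroup of order divisible by `p` contains `z`, if every non-trivial element of a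
Sylow `p`-subgroup generates, with its conjugates, a subgroup containing `z`. -/
theorem mem_normal_of_sylow [Finite G] {p : ℕ} [_root_.Fact p.Prime] {P : Subgroup G}
    (hP : Nat.card P = p ^ (Nat.card G).factorization p) {z : G}
    (hz : ∀ (N : Subgroup G), N.Normal → ∀ u ∈ P, u ≠ 1 → u ∈ N → z ∈ N)
    (N : Subgroup G) [N.Normal] (hp : p ∣ Nat.card N) : z ∈ N := by
  obtain ⟨u, hu⟩ := exists_prime_orderOf_dvd_card' p hp
  have hup : IsPGroup p (Subgroup.zpowers (u : G)) :=
    IsPGroup.of_card (n := 1) (by rw [Nat.card_zpowers, Subgroup.orderOf_coe, hu, pow_one])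
  obtain ⟨Q, hQ⟩ := hup.exists_le_sylow
  obtain ⟨g, hg⟩ := MulAction.exists_smul_eq G Q (Sylow.ofCard P hP)
  refine hz N ‹_› (g * u * g⁻¹) ?_ ?_ (‹N.Normal›.conj_mem _ u.2 g)
  · have hm : g * u * g⁻¹ ∈ ((g • Q : Sylow p G) : Subgroup G) := by
      rw [Sylow.coe_subgroup_smul, Subgroup.mem_pointwise_smul_iff_inv_smul_mem]
      simpa [mul_assoc] using hQ (Subgroup.mem_zpowers _)
    rw [hg] at hm
    exact hm
  · intro h
    rw [conj_eq_one_iff] at h
    have : u = 1 := Subtype.ext h
    rw [this, orderOf_one] at hu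
    exact (_root_.Fact.out : p.Prime).ne_one hu.symm

/-- The case of a Sylow subgroup of prime order. -/
theorem mem_normal_of_prime [Finite G] {p : ℕ} [_root_.Fact p.Prime] {w : G} (hw : orderOf w = p)
    (hG : (Nat.card G).factorization p = 1) (N : Subgroup G) [N.Normal] (hp : p ∣ Nat.card N) : w ∈ N := by
  refine mem_normal_of_sylow (P := Subgroup.zpowers w) (by rw [Nat.card_zpowers, hw, hG, pow_one]) ?_ N hp
  intro M _ u hu hne huM
  have hou : orderOf u = p := by
    have h1 := Subgroup.orderOf_dvd_natCard (Subgroup.zpowers w) hu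
    rw [Nat.card_zpowers, hw] at h1
    rcases (Nat.dvd_prime (_root_.Fact.out : p.Prime)).mp h1 with h | h
    · exact absurd (orderOf_eq_one_iff.mp h) hne
    · exact h
  have heq : Subgroup.zpowers u = Subgroup.zpowers w :=
    Subgroup.eq_of_le_of_card_ge (Subgroup.zpowers_le.mpr hu) (by rw [Nat.card_zpowers, Nat.card_zpowers, hw, hou])
  exact (Subgroup.zpowers_le.mpr huM) (heq ▸ Subgroup.mem_zpowers w)

end

end CfsgLib.CosetEnum
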