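import Cfsg.Agent.CosetEnum.Simple

set_option autoImplicit false

/-!
Word identities read off a faithful action, and an extraspecial group of order 27 given by words.
-/

namespace CfsgLib.CosetEnum

noncomputable section

variable {α : Type} [DecidableEq α] {S : Setup α} {n : ℕ} {tb : ℕ → ℕ}
  {φ : S.Grp →* Equiv.Perm (Fin n)}

/-- Two words act alike on all cosets. -/
def sameWord (n : ℕ) (tb : ℕ → ℕ) (v w : List ℕ) (i : ℕ) : Bool :=
  bif Nat.blt i n then Nat.beq (walk tb v i) (walk tb w i) else true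

theorem prodw_eq_of_sameWord (hinj : Function.Injective φ)
    (hφ : ∀ (w : List ℕ), (∀ x ∈ w, x < S.k) → ∀ i : Fin n, ((φ (prodw S.g w))⁻¹ i).val = walk tb w i)
    (v w : List ℕ) (hv : ∀ x ∈ v, x < S.k) (hw : ∀ x ∈ w, x < S.k) {d : ℕ} (hd : n ≤ 2 ^ d)
    (h : allR (sameWord n tb v w) d 0 = true) : prodw S.g v = prodw S.g w := by
  apply hinj
  apply inv_injective
  ext i
  have h1 := allR_spec d 0 h i (Nat.zero_le _) (by omega)
  unfold sameWord at h1
  rw [show Nat.blt i.val n = true by simp] at h1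
  simp only [cond_true] at h1
  rw [hφ v hv, hφ w hw]
  exact Nat.eq_of_beq_eq_true h1

theorem prodw_ne_one_of_moves
    (hφ : ∀ (w : List ℕ), (∀ x ∈ w, x < S.k) → ∀ i : Fin n, ((φ (prodw S.g w))⁻¹ i).val = walk tb w i)
    (w : List ℕ) (hw : ∀ x ∈ w, x < S.k) (i : ℕ) (hi : i < n) (h : Nat.beq (walk tb w i) i = false) :
    prodw S.g w ≠ 1 := by
  intro h1
  have h2 := hφ w hw ⟨i, hi⟩
  rw [h1, map_one, inv_one, Equiv.Perm.one_apply] at h2
  have h4 : Nat.beq (walk tb w i) i = true := by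
    have h3 : walk tb w i = i := h2.symm
    rw [h3]
    exact Nat.beq_refl _
  rw [h4] at h
  exact Bool.noConfusion h

section Heisenberg

variable {G : Type*} [Group G] (x y z : G)

/-- Product in the Heisenberg group of order 27. -/
def heisMul (a b : ZMod 3 × ZMod 3 × ZMod 3) : ZMod 3 × ZMod 3 × ZMod 3 :=
  (a.1 + b.1, a.2.1 + b.2.1, a.2.2 + b.2.2 + a.2.1 * b.1)

/-- Inverse in the Heisenberg group of order 27. -/
def heisInv (a : ZMod 3 × ZMod 3 × ZMod 3) : ZMod 3 × ZMod 3 × ZMod 3 :=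
  (-a.1, -a.2.1, -a.2.2 + a.2.1 * a.1)

/-- The element with given coordinates. -/
def heisElt (a : ZMod 3 × ZMod 3 × ZMod 3) : G := x ^ a.1.val * y ^ a.2.1.val * z ^ a.2.2.val

theorem heisElt_mul (hx : x ^ 3 = 1) (hy : y ^ 3 = 1) (hz : z ^ 3 = 1) (hxz : Commute x z)
    (hyz : Commute y z) (hyx : y * x = x * y * z) (a b : ZMod 3 × ZMod 3 × ZMod 3) :
    heisElt x y z a * heisElt x y z b = heisElt x y z (heisMul a b) := by
  have hmod : ∀ (u : G), u ^ 3 = 1 → ∀ m : ℕ, u ^ m = u ^ ((m : ZMod 3).val) := fun u hu m => by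
    rw [ZMod.val_natCast, ← pow_eq_pow_mod m hu]
  have h1 : ∀ i : ℕ, y * x ^ i = x ^ i * (y * z ^ i) := by
    intro i
    induction i with
    | zero => simp
    | succ i ih =>
      have hc : Commute (z ^ i) x := (hxz.symm.pow_left i)
      calc y * x ^ (i + 1) = (y * x ^ i) * x := by rw [pow_succ, mul_assoc]
        _ = x ^ i * y * (z ^ i * x) := by rw [ih]; simp [mul_assoc]
        _ = x ^ i * (y * x) * z ^ i := by rw [hc.eq]; simp [mul_assoc]
        _ = x ^ (i + 1) * (y * z ^ (i + 1)) := by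
            rw [hyx, pow_succ, pow_succ' z]; simp [mul_assoc]
  have h2 : ∀ j i : ℕ, y ^ j * x ^ i = x ^ i * y ^ j * z ^ (j * i) := by
    intro j i
    induction j with
    | zero => simp
    | succ j ih =>
      have hc : Commute (z ^ (j * i)) y := (hyz.symm.pow_left _)
      calc y ^ (j + 1) * x ^ i = y ^ j * (y * x ^ i) := by rw [pow_succ, mul_assoc]
        _ = (y ^ j * x ^ i) * y * z ^ i := by rw [h1]; simp [mul_assoc]
        _ = x ^ i * y ^ j * (z ^ (j * i) * y) * z ^ i := by rw [ih]; simp [mul_assoc]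
        _ = x ^ i * y ^ (j + 1) * z ^ ((j + 1) * i) := by
            rw [hc.eq, add_mul, one_mul, pow_add z, pow_succ]; simp [mul_assoc]
  obtain ⟨a1, a2, a3⟩ := a
  obtain ⟨b1, b2, b3⟩ := b
  have hc1 : Commute (z ^ a3.val) (x ^ b1.val) := hxz.symm.pow_pow _ _
  have hc2 : Commute (z ^ (a2.val * b1.val + a3.val)) (y ^ b2.val) := hyz.symm.pow_pow _ _
  calc heisElt x y z (a1, a2, a3) * heisElt x y z (b1, b2, b3)
      = x ^ a1.val * y ^ a2.val * (z ^ a3.val * x ^ b1.val) * (y ^ b2.val * z ^ b3.val) := by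
        simp [heisElt, mul_assoc]
    _ = x ^ a1.val * (y ^ a2.val * x ^ b1.val) * z ^ a3.val * (y ^ b2.val * z ^ b3.val) := by
        rw [hc1.eq]; simp [mul_assoc]
    _ = x ^ (a1.val + b1.val) * y ^ a2.val * (z ^ (a2.val * b1.val + a3.val) * y ^ b2.val) * z ^ b3.val := by
        rw [h2, pow_add x, pow_add z]; simp [mul_assoc]
    _ = x ^ (a1.val + b1.val) * y ^ (a2.val + b2.val) * z ^ (a3.val + b3.val + a2.val * b1.val) := by
        rw [hc2.eq, show a3.val + b3.val + a2.val * b1.val = (a2.val * b1.val + a3.val) + b3.val by ring,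
          pow_add _ _ b3.val, pow_add y]
        simp [mul_assoc]
    _ = _ := by
        rw [hmod x hx, hmod y hy, hmod z hz]
        simp [heisElt, heisMul, ZMod.natCast_zmod_val]

theorem heisMul_inv : ∀ a, heisMul a (heisInv a) = (0, 0, 0) := by decide

theorem heisMul_inv_ne : ∀ a b, a ≠ b → heisMul a (heisInv b) ≠ (0, 0, 0) := by decide

theorem heis_central : ∀ a : ZMod 3 × ZMod 3 × ZMod 3, a ≠ (0, 0, 0) →
    a = (0, 0, 1) ∨ heisInv a = (0, 0, 1) ∨ ∃ c,
      heisMul (heisMul (heisMul c a) (heisInv c)) (heisInv a) = (0, 0, 1) := by decide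

/-- An extraspecial Sylow 3-subgroup of order 27 puts its central element in every normal subgroup
of order divisible by 3. -/
theorem mem_normal_of_heisenberg [Finite G] (hx : x ^ 3 = 1) (hy : y ^ 3 = 1) (hz : z ^ 3 = 1)
    (hxz : Commute x z) (hyz : Commute y z) (hyx : y * x = x * y * z)
    (hne : ∀ a, a ≠ (0, 0, 0) → heisElt x y z a ≠ 1) (hG : (Nat.card G).factorization 3 = 3)
    (N : Subgroup G) [N.Normal] (hp : 3 ∣ Nat.card N) : z ∈ N := by
  haveI : _root_.Fact (Nat.Prime 3) := ⟨Nat.prime_three⟩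
  have hmul := heisElt_mul x y z hx hy hz hxz hyz hyx
  have hone : heisElt x y z (0, 0, 0) = 1 := by simp [heisElt]
  have hinv : ∀ a, (heisElt x y z a)⁻¹ = heisElt x y z (heisInv a) := fun a => by
    apply inv_eq_of_mul_eq_one_right
    rw [hmul, heisMul_inv, hone]
  let P : Subgroup G :=
    { carrier := Set.range (heisElt x y z)
      one_mem' := ⟨(0, 0, 0), hone⟩
      mul_mem' := by rintro _ _ ⟨a, rfl⟩ ⟨b, rfl⟩; exact ⟨_, (hmul a b).symm⟩
      inv_mem' := by rintro _ ⟨a, rfl⟩; exact ⟨_, (hinv a).symm⟩ }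
  have hinjE : Function.Injective (heisElt x y z) := fun a b hab => by
    by_contra hne'
    refine hne (heisMul a (heisInv b)) ?_ ?_
    · exact heisMul_inv_ne a b hne'
    · rw [← hmul, ← hinv, hab, mul_inv_cancel]
  have hcard : Nat.card P = 3 ^ (Nat.card G).factorization 3 := by
    rw [hG]
    calc Nat.card P = Nat.card (Set.range (heisElt x y z)) := rfl
      _ = Nat.card (ZMod 3 × ZMod 3 × ZMod 3) := Nat.card_range_of_injective hinjE
      _ = 3 ^ 3 := by rw [Nat.card_eq_fintype_card]; decide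
  refine mem_normal_of_sylow (P := P) hcard ?_ N hp
  rintro M hM _ ⟨a, rfl⟩ hu huM
  have hcomm : ∀ c, heisElt x y z (heisMul (heisMul (heisMul c a) (heisInv c)) (heisInv a)) ∈ M := by
    intro c
    rw [← hmul, ← hmul, ← hmul, ← hinv, ← hinv]
    exact M.mul_mem (hM.conj_mem _ huM _) (M.inv_mem huM)
  have ha : a ≠ (0, 0, 0) := fun h => hu (h ▸ hone)
  have hz1 : heisElt x y z (0, 0, 1) = z := by
    simp [heisElt, show (1 : ZMod 3).val = 1 from rfl]
  rw [← hz1]
  rcases heis_central a ha with h | h | ⟨c, hc⟩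
  · exact h ▸ huM
  · exact h ▸ (hinv a ▸ M.inv_mem huM)
  · exact hc ▸ hcomm c

end Heisenberg

end

end CfsgLib.CosetEnum
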