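import Cfsg.Agent.CosetEnum.Lower

set_option autoImplicit false

/-!
Restriction of a permutation representation to an invariant set of points given by a table, and
the consequences used for groups whose point stabiliser is a double cover.
-/

namespace CfsgLib.CosetEnum.Restrict

open Equiv

noncomputable section

variable {G : Type*} [Group G] {n r : ℕ} (φ : G →* Perm (Fin n)) (ι : Fin r → Fin n)

/-- Elements preserving the image of `ι`. -/
def stab : Subgroup G where
  carrier := {y | ∃ q : Perm (Fin r), ∀ i, φ y (ι i) = ι (q i)}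
  one_mem' := ⟨1, fun i => by simp⟩
  mul_mem' := by
    rintro y y' ⟨q, hq⟩ ⟨q', hq'⟩
    exact ⟨q * q', fun i => by rw [map_mul, Perm.mul_apply, hq', hq, Perm.mul_apply]⟩
  inv_mem' := by
    rintro y ⟨q, hq⟩
    refine ⟨q⁻¹, fun i => ?_⟩
    rw [map_inv, Perm.inv_eq_iff_eq, hq, Perm.inv_def, Equiv.apply_symm_apply]

variable {φ ι}

/-- The restriction. -/
def res (hι : Function.Injective ι) : stab φ ι →* Perm (Fin r) where
  toFun y := y.2.choose
  map_one' := Equiv.ext fun i => hι (by
    rw [← (1 : stab φ ι).2.choose_spec i]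
    simp)
  map_mul' y y' := Equiv.ext fun i => hι (by
    rw [← (y * y').2.choose_spec i, Perm.mul_apply, ← y.2.choose_spec, ← y'.2.choose_spec,
      Subgroup.coe_mul, map_mul, Perm.mul_apply])

theorem res_spec (hι : Function.Injective ι) (y : stab φ ι) (i : Fin r) :
    φ y (ι i) = ι (res hι y i) := y.2.choose_spec i

theorem res_eq (hι : Function.Injective ι) (y : stab φ ι) {q : Perm (Fin r)}
    (hq : ∀ i, φ y (ι i) = ι (q i)) : res hι y = q :=
  Equiv.ext fun i => hι (by rw [← res_spec hι, hq])

/-- The relabelling table has the table `IP` as left inverse. -/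
def leftInvEntry (n r P IP i : ℕ) : Bool :=
  bif Nat.blt i r then Nat.blt (ext P i) n && Nat.beq (ext IP (ext P i)) i else true

/-- The table `T` on the points `P i` agrees with the table `U`. -/
def conjTabEntry (r P T U i : ℕ) : Bool :=
  bif Nat.blt i r then Nat.beq (ext T (ext P i)) (ext P (ext U i)) else true

theorem relabel_lt {P IP d : ℕ} (hd : r ≤ 2 ^ d) (h : allR (leftInvEntry n r P IP) d 0 = true)
    (i : Fin r) : ext P i < n ∧ ext IP (ext P i) = i := by
  have h1 := allR_spec d 0 h i (Nat.zero_le _) (by omega)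
  unfold leftInvEntry at h1
  rw [show Nat.blt i.val r = true by simp] at h1
  simp only [cond_true, Bool.and_eq_true, Nat.blt_eq] at h1
  exact ⟨h1.1, Nat.eq_of_beq_eq_true h1.2⟩

theorem conjTab_spec {P T U d : ℕ} (hd : r ≤ 2 ^ d) (h : allR (conjTabEntry r P T U) d 0 = true)
    (i : Fin r) : ext T (ext P i) = ext P (ext U i) := by
  have h1 := allR_spec d 0 h i (Nat.zero_le _) (by omega)
  unfold conjTabEntry at h1
  rw [show Nat.blt i.val r = true by simp] at h1
  exact Nat.eq_of_beq_eq_true h1

/-- Two elements of an index-two subgroup membership test: conjugates agree. -/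
theorem mem_iff_of_braid {H : Type*} [Group H] {L : Subgroup H} (hL : L.index = 2) {x y : H}
    (h : x * y * x = y * x * y) : x ∈ L ↔ y ∈ L := by
  have h1 : x * y * x ∈ L ↔ y * x * y ∈ L := by rw [h]
  simp only [Subgroup.mul_mem_iff_of_index_two hL] at h1
  tauto

/-- If all letters are outside a subgroup of index two, a product is inside iff its length is even. -/
theorem prod_mem_iff_even {H : Type*} [Group H] {L : Subgroup H} (hL : L.index = 2) :
    ∀ l : List H, (∀ x ∈ l, x ∉ L) → (l.prod ∈ L ↔ Even l.length) := by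
  intro l
  induction l with
  | nil => simp
  | cons a l ih =>
    intro h
    have ha : a ∉ L := h a List.mem_cons_self
    rw [List.prod_cons, Subgroup.mul_mem_iff_of_index_two hL,
      ih fun x hx => h x (List.mem_cons_of_mem a hx), List.length_cons, Nat.even_add_one]
    simp [ha]

/-- A transitive normal subgroup of odd prime multiple order meeting the stabiliser trivially. -/
theorem not_normal_regular [Finite G] [NeZero n] {p m : ℕ} [_root_.Fact p.Prime] (hn : n = p * m)
    (hm : m ≠ 1) (hnp : ¬ p ∣ m) (hdiv : ∀ d, d ∣ m → d ≡ 1 [MOD p] → d = 1)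
    (htrans : ∀ M : Subgroup G, M.Normal → M ≠ ⊥ → n ∣ Nat.card M)
    (N : Subgroup G) [N.Normal] (hN : Nat.card N = n) : False := by
  have hp0 : p ≠ 0 := (Fact.out : p.Prime).ne_zero
  obtain ⟨Q⟩ : Nonempty (Sylow p N) := inferInstance
  have hQ : Nat.card Q = p := by
    rw [Q.card_eq_multiplicity, hN, hn, Nat.factorization_mul hp0 (fun h => by simp [h] at hnp),
      Finsupp.add_apply, Nat.Prime.factorization_self Fact.out, Nat.factorization_eq_zero_of_not_dvd hnp,
      add_zero, pow_one]
  have hidx : (Q : Subgroup N).index = m := by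
    have := Subgroup.card_mul_index (Q : Subgroup N)
    rw [hN, hn, show Nat.card (Q : Subgroup N) = p from hQ] at this
    exact Nat.eq_of_mul_eq_mul_left (Nat.pos_of_ne_zero hp0) this
  have h1 : Nat.card (Sylow p N) = 1 :=
    hdiv _ (hidx ▸ Q.card_dvd_index) (card_sylow_modEq_one p N)
  haveI : Subsingleton (Sylow p N) := (Nat.card_eq_one_iff_unique.mp h1).1
  haveI : (Q : Subgroup N).Normal := Sylow.normal_of_subsingleton Q
  haveI : (Q : Subgroup N).Characteristic := Q.characteristic_of_normal ‹_›
  have hc : Nat.card ((Q : Subgroup N).map N.subtype) = p := by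
    rw [Subgroup.card_map_of_injective N.subtype_injective, hQ]
  have hne : (Q : Subgroup N).map N.subtype ≠ ⊥ := fun h => by
    rw [h, Subgroup.card_bot] at hc
    exact (Fact.out : p.Prime).ne_one hc.symm
  have h2 := htrans _ (ConjAct.normal_of_characteristic_of_normal) hne
  rw [hc, hn] at h2
  have h3 := Nat.le_of_dvd (Nat.pos_of_ne_zero hp0) h2
  rcases Nat.eq_zero_or_pos m with rfl | hmpos
  · exact hnp (dvd_zero p)
  have : m = 1 := Nat.dvd_one.mp (Nat.dvd_of_mul_dvd_mul_left (Nat.pos_of_ne_zero hp0) (by simpa using h2))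
  exact hm this

/-- The subgroup generated by the elements of odd order of a normal subgroup of order twice an odd
number is a proper normal subgroup. -/
theorem exists_normal_lt [Finite G] (N : Subgroup G) [N.Normal] {m : ℕ} (hm : Odd m) (hm1 : m ≠ 1)
    (hN : Nat.card N = 2 * m) : ∃ M : Subgroup G, M.Normal ∧ M ≠ ⊥ ∧ M < N := by
  classical
  haveI : _root_.Fact (Nat.Prime 2) := ⟨Nat.prime_two⟩
  haveI : Fintype N := Fintype.ofFinite N
  set S : Set G := {g | g ∈ N ∧ Odd (orderOf g)} with hS
  refine ⟨Subgroup.normalClosure S, inferInstance, ?_, ?_⟩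
  · obtain ⟨q, hq, hqm⟩ := Nat.exists_prime_and_dvd hm1
    haveI : _root_.Fact q.Prime := ⟨hq⟩
    obtain ⟨g, hg⟩ := exists_prime_orderOf_dvd_card' (G := N) q (hN ▸ Dvd.dvd.mul_left hqm 2)
    intro h
    have hmem : (g : G) ∈ Subgroup.normalClosure S :=
      Subgroup.subset_normalClosure ⟨g.2, by rw [Subgroup.orderOf_coe, hg]; exact hm.of_dvd_nat hqm⟩
    rw [h, Subgroup.mem_bot] at hmem
    rw [show g = 1 from Subtype.ext hmem, orderOf_one] at hg
    exact hq.ne_one hg.symm
  · refine lt_of_le_of_ne (Subgroup.normalClosure_le_normal fun g hg => hg.1) fun h => ?_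
    let f : N →* ℤˣ := Perm.sign.comp (MulAction.toPermHom N N)
    obtain ⟨z, hz⟩ := exists_prime_orderOf_dvd_card' (G := N) 2 (hN ▸ dvd_mul_right 2 m)
    have hfix : ∀ x : N, z * x ≠ x := fun x hx => by
      rw [mul_eq_right] at hx
      rw [hx, orderOf_one] at hz
      omega
    have hfz : f z = -1 := by
      set σ := MulAction.toPermHom N N z with hσ
      have hσ2 : orderOf σ = 2 := by
        refine orderOf_eq_prime ?_ fun h1 => hfix 1 (Equiv.congr_fun h1 (1 : N))
        rw [hσ, ← map_pow, ← hz, pow_orderOf_eq_one, map_one]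
      obtain ⟨k, hk⟩ := Perm.cycleType_prime_order (σ := σ) (by rw [hσ2]; exact Nat.prime_two)
      have hsupp : σ.support = Finset.univ := Finset.eq_univ_of_forall fun x => by
        rw [Perm.mem_support]; exact hfix x
      have hsum := Perm.sum_cycleType σ
      rw [hsupp, hk, Multiset.sum_replicate, hσ2, Finset.card_univ, ← Nat.card_eq_fintype_card, hN,
        smul_eq_mul] at hsum
      show Perm.sign σ = -1
      rw [Perm.sign_of_cycleType, hk, Multiset.sum_replicate, Multiset.card_replicate, hσ2,
        smul_eq_mul, show k + 1 = m by omega]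
      rw [pow_add, pow_mul']
      simp [hm.neg_one_pow]
    have hker : Subgroup.normalClosure S ≤ f.ker.map N.subtype := by
      haveI : (f.ker.map N.subtype).Normal := by
        refine ⟨?_⟩
        rintro _ ⟨x, hx, rfl⟩ g
        refine ⟨⟨g * x * g⁻¹, ‹N.Normal›.conj_mem x x.2 g⟩, ?_, rfl⟩
        rw [SetLike.mem_coe, MonoidHom.mem_ker] at hx ⊢
        let c : N ≃* N := MulAut.conjNormal (H := N) g
        have hc : c x = ⟨g * x * g⁻¹, ‹N.Normal›.conj_mem x x.2 g⟩ := Subtype.ext rfl
        rw [← hc]
        show Perm.sign (MulAction.toPermHom N N (c x)) = 1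
        rw [show MulAction.toPermHom N N (c x) = c.toEquiv.permCongr (MulAction.toPermHom N N x) from
          Equiv.ext fun y => by
            simp [Equiv.permCongr_apply],
          Perm.sign_permCongr]
        exact hx
      refine Subgroup.normalClosure_le_normal fun g hg => ⟨⟨g, hg.1⟩, ?_, rfl⟩
      rw [SetLike.mem_coe, MonoidHom.mem_ker]
      have ho : Odd (orderOf (⟨g, hg.1⟩ : N)) := by rw [← Subgroup.orderOf_coe]; exact hg.2
      have h1 : f ⟨g, hg.1⟩ ^ orderOf (⟨g, hg.1⟩ : N) = 1 := by
        rw [← map_pow, pow_orderOf_eq_one, map_one]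
      rcases Int.units_eq_one_or (f ⟨g, hg.1⟩) with h2 | h2
      · exact h2
      · rw [h2, ho.neg_one_pow] at h1
        exact absurd h1 (by decide)
    obtain ⟨y, hy, hyz⟩ := hker (h.symm ▸ z.2 : (z : G) ∈ Subgroup.normalClosure S)
    rw [SetLike.mem_coe, MonoidHom.mem_ker, show y = z from Subtype.ext hyz, hfz] at hy
    exact absurd hy (by decide)

end

end CfsgLib.CosetEnum.Restrict
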