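import Cfsg.Agent.CosetEnum.Cox

set_option autoImplicit false

/-!
Upper bounds for orders of subgroups of a presented group from coset enumerations inside it, and
proofs that a word is trivial.
-/

namespace CfsgLib.CosetEnum

noncomputable section

variable {G : Type*} [Group G] {g : ℕ → G} {H : Subgroup G} {k n : ℕ} {tb : ℕ → ℕ} {cr : ℕ → G}

theorem finite_and_card_le [Finite H] {B d : ℕ} (hk : k ≤ 16) (hd : n ≤ 2 ^ d) (hn : 0 < n)
    (hiv : ∀ x, x < k → g x = (g x)⁻¹) (h0 : cr 0 = 1)
    (hv : allR (validEntry n k tb id) d 0 = true) (hfull : B = 2 ^ (n * k) - 1)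
    (hInv : Inv g H k tb cr B) :
    Finite (Subgroup.closure (g '' {x | x < k})) ∧
      Nat.card (Subgroup.closure (g '' {x | x < k})) ≤ n * Nat.card H := by
  have hedge : ∀ i x, i < n → x < k → ∃ j, j < n ∧ cr i * g x * (cr j)⁻¹ ∈ H := by
    intro i x hi hx
    refine ⟨T tb x i, ?_, hInv i x hx ?_⟩
    · have h1 := allR_spec d 0 hv i (Nat.zero_le _) (by omega)
      unfold validEntry at h1
      rw [show Nat.blt i n = true by simpa using hi] at h1
      simp only [cond_true] at h1
      have h2 := allR_spec 4 0 h1 x (Nat.zero_le _) (by show x < 0 + 2 ^ 4; omega)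
      rw [show Nat.blt x k = true by simpa using hx] at h2
      simp only [cond_true, Bool.and_eq_true, Nat.blt_eq] at h2
      exact h2.1
    · rw [known, bit_eq, hfull, Nat.testBit_two_pow_sub_one]
      simp only [decide_eq_true_eq]
      show i * k + x < n * k
      calc i * k + x < (i + 1) * k := by rw [add_mul, one_mul]; omega
        _ ≤ n * k := Nat.mul_le_mul_right k hi
  have claim : ∀ y ∈ Subgroup.closure (g '' {x | x < k}), ∀ i, i < n →
      ∃ j, j < n ∧ cr i * y * (cr j)⁻¹ ∈ H := by
    intro y hy
    induction hy using Subgroup.closure_induction'' with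
    | mem y hy =>
      obtain ⟨x, hx, rfl⟩ := hy
      exact fun i hi => hedge i x hi hx
    | inv_mem y hy =>
      obtain ⟨x, hx, rfl⟩ := hy
      rw [← hiv x hx]
      exact fun i hi => hedge i x hi hx
    | one => exact fun i hi => ⟨i, hi, by simp [H.one_mem]⟩
    | mul y z _ _ h1 h2 =>
      intro i hi
      obtain ⟨j, hj, hyj⟩ := h1 i hi
      obtain ⟨l, hl, hzl⟩ := h2 j hj
      refine ⟨l, hl, ?_⟩
      have := H.mul_mem hyj hzl
      simpa [mul_assoc] using this
  let f : Fin n × H → G := fun p => (p.2 : G) * cr p.1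
  have hsub : ((Subgroup.closure (g '' {x | x < k})) : Set G) ⊆ Set.range f := by
    intro y hy
    obtain ⟨j, hj, hyj⟩ := claim y hy 0 hn
    rw [h0, one_mul] at hyj
    exact ⟨(⟨j, hj⟩, ⟨_, hyj⟩), inv_mul_cancel_right y (cr j)⟩
  refine ⟨((Set.finite_range f).subset hsub).to_subtype, ?_⟩
  calc Nat.card (Subgroup.closure (g '' {x | x < k}))
      ≤ Nat.card (Set.range f) := Nat.card_mono (Set.finite_range f) hsub
    _ ≤ Nat.card (Fin n × H) := Finite.card_range_le f
    _ = n * Nat.card H := by rw [Nat.card_prod, Nat.card_fin]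

/-- A word read as a known closed path at coset 0 lies in the subgroup. -/
theorem prodw_mem_of_allKnown {B : ℕ} {w : List ℕ} (h0 : cr 0 = 1) (hInv : Inv g H k tb cr B)
    (hw : allKnown k tb B 0 w 0 = true) : prodw g w ∈ H := by
  simpa [h0] using allKnown_sound hInv w 0 hw

variable {α : Type} [DecidableEq α] (S : Setup α)

namespace Setup

/-- The subgroup generated by some of the letters. -/
def letSub (L : List ℕ) : Subgroup S.Grp := Subgroup.closure {y | ∃ x ∈ L, y = S.g x}

theorem letSub_nil : S.letSub [] = ⊥ := by simp [letSub]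

theorem finite_letSub_nil : Finite (S.letSub []) := by
  rw [S.letSub_nil]; infer_instance

theorem card_letSub_nil : Nat.card (S.letSub []) ≤ 1 := by
  rw [S.letSub_nil, Subgroup.card_bot]

theorem letSub_all (L : List ℕ) (hL : ∀ x, x < S.k → x ∈ L) : S.letSub L = ⊤ := by
  rw [eq_top_iff, ← PresentedGroup.closure_range_of]
  refine Subgroup.closure_mono ?_
  rintro _ ⟨a, rfl⟩
  exact ⟨S.ix a, hL _ (S.ix_lt a), by rw [Setup.g, S.en_ix]⟩

/-- Global letters of a local alphabet. -/
def localG (L : List ℕ) (x : ℕ) : S.Grp := S.g (L.getD x 0)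

theorem prodw_localG (L w : List ℕ) : prodw (S.localG L) w = prodw S.g (w.map fun x => L.getD x 0) := by
  simp only [prodw, List.map_map]
  rfl

theorem closure_localG (L : List ℕ) :
    Subgroup.closure (S.localG L '' {x | x < L.length}) = S.letSub L := by
  unfold letSub
  congr 1
  ext y
  constructor
  · rintro ⟨i, hi, rfl⟩
    have hi' : i < L.length := hi
    exact ⟨_, List.getElem_mem hi', by rw [localG, List.getD_eq_getElem _ _ hi']⟩
  · rintro ⟨x, hx, rfl⟩
    obtain ⟨i, hi, rfl⟩ := List.getElem_of_mem hx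
    exact ⟨i, hi, by rw [localG, List.getD_eq_getElem _ _ hi]⟩

theorem localG_inv (L : List ℕ) (x : ℕ) : S.localG L x = (S.localG L x)⁻¹ :=
  (inv_eq_of_mul_eq_one_right (S.of_sq _)).symm

end Setup

/-- An enumeration of the subgroup on the letters `L` over the subgroup on the letters `L'`;
`rels` are words in local letters that hold in the group. -/
structure Local (S : Setup α) where
  L : List ℕ
  L' : List ℕ
  known : List (List ℕ)
  known_one : ∀ w ∈ known, prodw S.g w = 1
  rels : List (List ℕ)
  rels_ok : rels.all (fun w => decide (w.map (fun x => L.getD x 0) ∈ S.words ++ known)) = true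
  subs : List ℕ
  subs_ok : subs.all (fun x => decide (L.getD x 0 ∈ L')) = true
  all : List (List ℕ)
  all_eq : all = rels ++ subs.map (fun x => [x])
  n : ℕ
  tb : ℕ → ℕ
  parN : ℕ
  parX : ℕ

namespace Local

variable {S} (E : Local S)

/-- The words, relators first. -/
def wd (r : ℕ) : List ℕ := E.all.getD r []

/-- Soundness invariant. -/
def Good (B : ℕ) : Prop :=
  Inv (S.localG E.L) (S.letSub E.L') E.L.length E.tb (crOf (S.localG E.L) E.parN E.parX) B

theorem good_tree (d B : ℕ) (h : runTree E.L.length E.tb id E.parN E.parX d = B) : E.Good B :=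
  h ▸ runTree_sound (fun x _ _ => S.localG_inv E.L x) (crOf_step _ E.parN E.parX) d

theorem good_tree_block (d lo B B' : ℕ) (hB : E.Good B)
    (h : foldR (tree E.L.length E.tb id E.parN E.parX) d lo B = B') : E.Good B' := by
  subst h
  refine foldR_induction (fun i B hB => ?_) d lo B hB
  unfold tree
  cases hc : (Nat.blt (ext E.parN i) i && Nat.blt (ext E.parX i) E.L.length &&
      Nat.beq (T E.tb (ext E.parX i) (ext E.parN i)) i)
  · exact hB
  simp only [cond_true]
  simp only [Bool.and_eq_true, Nat.blt_eq, Nat.beq_eq] at hc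
  refine mark_sound (fun x _ _ => S.localG_inv E.L x) hB hc.1.2 ?_
  show crOf (S.localG E.L) E.parN E.parX (ext E.parN i) * S.localG E.L (ext E.parX i) *
    (crOf (S.localG E.L) E.parN E.parX (T E.tb (ext E.parX i) (ext E.parN i)))⁻¹ ∈ S.letSub E.L'
  rw [hc.2, crOf_step (S.localG E.L) E.parN E.parX i hc.1.1, mul_inv_cancel]
  exact Subgroup.one_mem _

theorem good_zero : E.Good 0 := inv_zero _ _ _ _ _

theorem hrel (r : ℕ) (hr : r < E.rels.length) : prodw (S.localG E.L) (E.wd r) = 1 := by
  have hmem : E.wd r ∈ E.rels := by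
    simp only [wd, E.all_eq]
    rw [List.getD_eq_getElem _ _ (show r < (E.rels ++ E.subs.map fun x => [x]).length by
        rw [List.length_append]; omega), List.getElem_append_left hr]
    exact List.getElem_mem hr
  have h := of_decide_eq_true (List.all_eq_true.mp E.rels_ok _ hmem)
  rw [S.prodw_localG]
  rcases List.mem_append.mp h with h | h
  · exact S.prod_mem _ h
  · exact E.known_one _ h

theorem hsub (r : ℕ) (hr : r < E.all.length) : prodw (S.localG E.L) (E.wd r) ∈ S.letSub E.L' := by
  by_cases h : r < E.rels.length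
  · rw [E.hrel r h]; exact one_mem _
  · rw [E.all_eq, List.length_append] at hr
    simp only [wd, E.all_eq]
    rw [List.getD_eq_getElem _ _ (show r < (E.rels ++ E.subs.map fun x => [x]).length by
        rw [List.length_append]; omega), List.getElem_append_right (Nat.le_of_not_lt h), List.getElem_map]
    rw [List.length_map] at hr
    have hlt : r - E.rels.length < E.subs.length := by omega
    refine Subgroup.subset_closure ⟨E.L.getD (E.subs[r - E.rels.length]'hlt) 0,
      of_decide_eq_true (List.all_eq_true.mp E.subs_ok _ (List.getElem_mem hlt)), ?_⟩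
    simp [prodw, Setup.localG]

theorem good_ded (d steps nR nW B B' : ℕ) (hR : nR = E.rels.length) (hW : nW = E.all.length)
    (hB : E.Good B) (h : runDed E.L.length E.tb id E.wd nR nW d steps B = B') : E.Good B' := by
  subst h hR hW
  exact runDed_sound (fun x _ _ => S.localG_inv E.L x) (crOf_zero _ _ _) E.hrel E.hsub hB

theorem good_grant (Ds : List Deriv) (i x : ℕ) (p : List PE) (nR nW B B' : ℕ)
    (hR : nR = E.rels.length) (hW : nW = E.all.length)
    (hB : E.Good B) (h : grant E.L.length E.tb id E.wd nR nW B Ds i x p = B') : E.Good B' := by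
  subst h hR hW
  exact grant_sound (fun x _ _ => S.localG_inv E.L x) (crOf_zero _ _ _) E.hrel E.hsub hB Ds i x p

theorem bound {d B m : ℕ} (hL : E.L.length ≤ 16) (hd : E.n ≤ 2 ^ d) (hn : 0 < E.n) (hB : E.Good B)
    (hv : allR (validEntry E.n E.L.length E.tb id) d 0 = true)
    (hfull : B = 2 ^ (E.n * E.L.length) - 1)
    (hfin : Finite (S.letSub E.L')) (hm : Nat.card (S.letSub E.L') ≤ m) :
    Finite (S.letSub E.L) ∧ Nat.card (S.letSub E.L) ≤ E.n * m := by
  have h := @finite_and_card_le _ _ (S.localG E.L) (S.letSub E.L') E.L.length E.n E.tb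
    (crOf (S.localG E.L) E.parN E.parX) hfin B d hL hd hn (fun x _ => S.localG_inv E.L x)
    (crOf_zero _ _ _) hv hfull hB
  rw [S.closure_localG] at h
  exact ⟨h.1, h.2.trans (Nat.mul_le_mul_left _ hm)⟩

theorem word_eq_one {B : ℕ} (hB : E.Good B) (w : List ℕ) (hL' : E.L' = [])
    (hw : allKnown E.L.length E.tb B 0 w 0 = true) :
    prodw S.g (w.map fun x => E.L.getD x 0) = 1 := by
  have h := prodw_mem_of_allKnown (crOf_zero _ _ _) hB hw
  rw [hL', S.letSub_nil, Subgroup.mem_bot, S.prodw_localG] at h
  exact h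

end Local

end

end CfsgLib.CosetEnum
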