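import Cfsg.Agent.CosetEnum.Cox

set_option autoImplicit false

/-! Deductions in an enumeration of a whole presented group that may use further true relators. -/

namespace CfsgLib.CosetEnum.Enum

variable {α : Type} [DecidableEq α] {S : Setup α} (E : Enum S)

theorem good_ded_known (K allX : List (List ℕ)) (hK : ∀ w ∈ K, prodw S.g w = 1)
    (hall : allX = S.words ++ K ++ E.sW) (wd : ℕ → List ℕ) (hwd : wd = fun r => allX.getD r [])
    (d steps nR nW B B' : ℕ) (hR : nR = S.words.length + K.length) (hW : nW = allX.length)
    (hB : E.Good B) (h : runDed S.k E.tb id wd nR nW d steps B = B') : E.Good B' := by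
  subst h hR hW hwd hall
  have hrel : ∀ r, r < S.words.length + K.length →
      prodw S.g ((S.words ++ K ++ E.sW).getD r []) = 1 := by
    intro r hr
    have hr' : r < (S.words ++ K).length := by rw [List.length_append]; exact hr
    rw [List.getD_eq_getElem _ _ (show r < (S.words ++ K ++ E.sW).length by
      rw [List.length_append]; omega), List.getElem_append_left hr']
    rcases List.mem_append.mp (List.getElem_mem hr') with h | h
    · exact S.prod_mem _ h
    · exact hK _ h
  refine runDed_sound S.hiv (crOf_zero _ _ _) hrel ?_ hB
  intro r hr
  by_cases h : r < S.words.length + K.length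
  · rw [hrel r h]; exact one_mem _
  · have hlen : (S.words ++ K).length = S.words.length + K.length := List.length_append
    rw [List.length_append, hlen] at hr
    refine Subgroup.subset_closure ⟨r - (S.words ++ K).length,
      (show r - (S.words ++ K).length < E.sW.length by omega), ?_⟩
    show prodw S.g (E.sW.getD _ []) = _
    rw [List.getD_eq_getElem _ _ (show r - (S.words ++ K).length < E.sW.length by omega),
      List.getD_eq_getElem _ _ (show r < (S.words ++ K ++ E.sW).length by rw [List.length_append, hlen]; omega),
      List.getElem_append_right (by omega)]

end CfsgLib.CosetEnum.Enum
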