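import Cfsg.Agent.CosetEnum.Engine

set_option autoImplicit false

/-!
Certificates of coset enumerations with coincidences, as logs.

A log claims, for each index `i`, an edge `u --l--> v` between numbered nodes; the label `e` stands
for the empty word, so it records a coincidence.  Each claim is either the definition of the node
`i + 1` or follows from claims with smaller indices by reading a relator (or, at node `0`, a
subgroup word) around a cycle with one gap.  The blocks of a log can be checked independently.
-/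

namespace CfsgLib.CosetEnum.Log

noncomputable section

/-- Bits `[0, m)` of `s`, where `b = 2 ^ m - 1`. -/
def low (s b : Nat) : Nat := Nat.land s b

/-- Start node of a claim. -/
def cu (c : Nat) : Nat := Nat.land c 65535

/-- Label of a claim. -/
def cl (c : Nat) : Nat := Nat.land (Nat.shiftRight c 16) 15

/-- End node of a claim. -/
def cv (c : Nat) : Nat := Nat.shiftRight c 20

/-- Entry `j` of a block of claims. -/
def claim (blk : Nat → Nat) (i : Nat) : Nat :=
  Nat.land (Nat.shiftRight (blk (Nat.shiftRight i 10)) (Nat.mul 36 (Nat.land i 1023))) 68719476735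

section Checker

variable (F : Nat → Nat) (iv : Nat → Nat) (e : Nat) (wd : Nat → List Nat) (nR nW N : Nat)

/-- Read a label in a word. -/
def eat (x : Nat) (w : List Nat) (cont : List Nat → Bool) : Bool :=
  bif Nat.beq x e then cont w
  else List.rec false (fun y ys _ => Nat.beq x y && cont ys) w

/-- Follow `cnt` references from the node `a`, reading their labels in `w`. -/
def walkRefs (i cnt : Nat) : Nat → Nat → List Nat → (Nat → Nat → List Nat → Bool) → Bool :=
  Nat.rec (fun s a w cont => cont s a w)
    (fun _ ih s a w cont =>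
      force (Nat.shiftRight (low s 1048575) 1) fun j =>
      Nat.blt j i && force (F j) fun c =>
        bif Nat.beq (Nat.land s 1) 1 then
          Nat.beq (cu c) a && eat e (cl c) w fun w' =>
            force (Nat.shiftRight s 20) fun s' => force (cv c) fun b => ih s' b w' cont
        else
          Nat.beq (cv c) a && eat e (iv (cl c)) w fun w' =>
            force (Nat.shiftRight s 20) fun s' => force (cu c) fun b => ih s' b w' cont) cnt

/-- A claim read off a cycle. -/
def checkCycle (i r la lb st s : Nat) (cont : Nat → Bool) : Bool :=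
  (Nat.blt r nR || (Nat.beq st 0 && Nat.blt r nW)) &&
  force (F i) fun c =>
    walkRefs F iv e i la s st (wd r) fun s₁ a w =>
      Nat.beq a (cu c) && eat e (cl c) w fun w₁ =>
        walkRefs F iv e i lb s₁ (cv c) w₁ fun s₂ b w₂ =>
          Nat.beq b st && List.rec (cont s₂) (fun _ _ _ => false) w₂

/-- One entry. -/
def checkEntry (i s : Nat) (cont : Nat → Bool) : Bool :=
  bif Nat.beq (low s 63) 63 then
    Nat.blt (Nat.add i 1) N && Nat.beq (cv (F i)) (Nat.add i 1) &&
      Nat.blt (cu (F i)) (Nat.add i 1) && force (Nat.shiftRight s 8) cont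
  else
    force (Nat.shiftRight s 40) fun s' =>
      checkCycle F iv e wd nR nW i (low s 63) (Nat.land (Nat.shiftRight s 6) 63)
        (Nat.land (Nat.shiftRight s 12) 63) (Nat.land (Nat.shiftRight s 18) 65535) s' cont

/-- A block of `cnt` entries from the index `i`. -/
def checkBlock (cnt : Nat) : Nat → Nat → Bool :=
  Nat.rec (fun _ _ => true)
    (fun _ ih i s => checkEntry F iv e wd nR nW N i s fun s' =>
      force (Nat.add i 1) fun i' => ih i' s') cnt

/-- References for the edges with labels `[x, x + cnt)` at the node `p`. -/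
def checkRefs (m n p cnt : Nat) : Nat → Nat → (Nat → Bool) → Bool :=
  Nat.rec (fun _ s cont => cont s)
    (fun _ ih x s cont =>
      force (Nat.shiftRight (low s 1048575) 1) fun j =>
      Nat.blt j m && force (F j) fun c =>
        (bif Nat.beq (Nat.land s 1) 1 then
          Nat.beq (cu c) p && Nat.beq (cl c) x && Nat.blt (cv c) n
        else Nat.beq (cv c) p && Nat.beq (iv (cl c)) x && Nat.blt (cu c) n) &&
        force (Nat.shiftRight s 20) fun s' => ih (Nat.add x 1) s' cont) cnt

/-- All edges at the nodes `[p, p + cnt)`. -/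
def checkTable (m n k cnt : Nat) : Nat → Nat → Bool :=
  Nat.rec (fun _ _ => true)
    (fun _ ih p s => checkRefs F iv m n p k 0 s fun s' => force (Nat.add p 1) fun p' => ih p' s') cnt

end Checker

/-! ### Soundness -/

section Sound

variable {G : Type*} [Group G] (g : Nat → G) (H : Subgroup G) (F : Nat → Nat) (N : Nat)

/-- Node representatives along the definitions. -/
def crF (v : Nat) : G :=
  if _h : 0 < v ∧ v < N ∧ cu (F (v - 1)) < v then crF (cu (F (v - 1))) * g (cl (F (v - 1))) else 1
termination_by v
decreasing_by exact _h.2.2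

theorem crF_zero : crF g F N 0 = 1 := by
  rw [crF, dif_neg]
  simp

/-- The meaning of a claim. -/
def Holds (i : Nat) : Prop :=
  crF g F N (cu (F i)) * g (cl (F i)) * (crF g F N (cv (F i)))⁻¹ ∈ H

/-- The meaning of a checked entry. -/
def Step (i : Nat) : Prop := (∀ j < i, Holds g H F N j) → Holds g H F N i

/-- All entries in `[lo, hi)` are checked. -/
def Steps (lo hi : Nat) : Prop := ∀ i, lo ≤ i → i < hi → Step g H F N i

theorem Steps.join {lo mid hi : Nat} (h₁ : Steps g H F N lo mid) (h₂ : Steps g H F N mid hi) :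
    Steps g H F N lo hi := fun i hl hh =>
  (lt_or_ge i mid).elim (fun h => h₁ i hl h) fun h => h₂ i h hh

theorem Steps.holds {m : Nat} (h : Steps g H F N 0 m) : ∀ i < m, Holds g H F N i := by
  intro i
  induction i using Nat.strong_induction_on with
  | _ i ih => exact fun hi => h i (Nat.zero_le _) hi fun j hj => ih j hj (hj.trans hi)

variable {g H F N} {iv : Nat → Nat} {e : Nat}
variable (hiv : ∀ x, g (iv x) = (g x)⁻¹) (he : g e = 1)

include he in
theorem eat_sound {x : Nat} {w : List Nat} {cont : List Nat → Bool}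
    (h : eat e x w cont = true) : ∃ w', prodw g w = g x * prodw g w' ∧ cont w' = true := by
  unfold eat at h
  cases hb : Nat.beq x e
  · rw [hb] at h
    cases w with
    | nil => exact absurd h Bool.false_ne_true
    | cons y ys =>
      have h' : (Nat.beq x y && cont ys) = true := h
      rw [Bool.and_eq_true] at h'
      exact ⟨ys, by rw [Nat.eq_of_beq_eq_true h'.1, prodw_cons], h'.2⟩
  · rw [hb] at h
    exact ⟨w, by rw [Nat.eq_of_beq_eq_true hb, he, one_mul], h⟩

include hiv he in
theorem walkRefs_sound {i : Nat} (hF : ∀ j < i, Holds g H F N j) :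
    ∀ (cnt s a : Nat) (w : List Nat) (cont : Nat → Nat → List Nat → Bool),
      walkRefs F iv e i cnt s a w cont = true →
      ∃ s' b w' y, cont s' b w' = true ∧ prodw g w = y * prodw g w' ∧
        crF g F N a * y * (crF g F N b)⁻¹ ∈ H := by
  intro cnt
  induction cnt with
  | zero => exact fun s a w cont h => ⟨s, a, w, 1, h, (one_mul _).symm, by simp [H.one_mem]⟩
  | succ cnt ih =>
    intro s a w cont h
    change force (Nat.shiftRight (low s 1048575) 1) (fun j =>
      Nat.blt j i && force (F j) fun c =>
        bif Nat.beq (Nat.land s 1) 1 then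
          Nat.beq (cu c) a && eat e (cl c) w fun w' =>
            force (Nat.shiftRight s 20) fun s' => force (cv c) fun b =>
              walkRefs F iv e i cnt s' b w' cont
        else
          Nat.beq (cv c) a && eat e (iv (cl c)) w fun w' =>
            force (Nat.shiftRight s 20) fun s' => force (cu c) fun b =>
              walkRefs F iv e i cnt s' b w' cont) = true at h
    simp only [force_eq] at h
    generalize Nat.shiftRight (low s 1048575) 1 = j at h
    rw [Bool.and_eq_true, Nat.blt_eq] at h
    have hj : crF g F N (cu (F j)) * g (cl (F j)) * (crF g F N (cv (F j)))⁻¹ ∈ H := hF j h.1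
    have hh := h.2
    cases hd : Nat.beq (Nat.land s 1) 1
    · simp only [hd, cond_false, Bool.and_eq_true] at hh
      obtain ⟨w₁, hw₁, hc⟩ := eat_sound he hh.2
      obtain ⟨s', b, w', y, h1, h2, h3⟩ := ih _ _ _ _ hc
      refine ⟨s', b, w', g (iv (cl (F j))) * y, h1, by rw [hw₁, h2, mul_assoc], ?_⟩
      have := H.mul_mem (H.inv_mem hj) h3
      rw [Nat.eq_of_beq_eq_true hh.1] at this
      simpa [hiv, mul_assoc] using this
    · simp only [hd, cond_true, Bool.and_eq_true] at hh
      obtain ⟨w₁, hw₁, hc⟩ := eat_sound he hh.2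
      obtain ⟨s', b, w', y, h1, h2, h3⟩ := ih _ _ _ _ hc
      refine ⟨s', b, w', g (cl (F j)) * y, h1, by rw [hw₁, h2, mul_assoc], ?_⟩
      have := H.mul_mem hj h3
      rw [Nat.eq_of_beq_eq_true hh.1] at this
      simpa [mul_assoc] using this

variable {wd : Nat → List Nat} {nR nW : Nat}
variable (hrel : ∀ r, r < nR → prodw g (wd r) = 1) (hsub : ∀ r, r < nW → prodw g (wd r) ∈ H)

include hiv he hrel hsub in
theorem checkEntry_sound {i s : Nat} {cont : Nat → Bool}
    (h : checkEntry F iv e wd nR nW N i s cont = true) :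
    Step g H F N i ∧ ∃ s', cont s' = true := by
  unfold checkEntry at h
  cases hd : Nat.beq (low s 63) 63
  · simp only [hd, cond_false, force_eq] at h
    generalize low s 63 = r at h
    generalize Nat.land (Nat.shiftRight s 6) 63 = la at h
    generalize Nat.land (Nat.shiftRight s 12) 63 = lb at h
    generalize Nat.land (Nat.shiftRight s 18) 65535 = st at h
    generalize Nat.shiftRight s 40 = s₀ at h
    simp only [checkCycle, force_eq, Bool.and_eq_true] at h
    obtain ⟨hr, hwalk⟩ := h
    -- the continuation is reached whatever the earlier claims mean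
    have key : ∀ (H : Subgroup G), (∀ j < i, Holds g H F N j) →
        ∃ w₁ w₂ y₁ y₂ s' b, cont s' = true ∧ b = st ∧ prodw g (wd r) = y₁ * prodw g w₁ ∧
          prodw g w₁ = g (cl (F i)) * prodw g w₂ ∧ prodw g w₂ = y₂ ∧
          crF g F N st * y₁ * (crF g F N (cu (F i)))⁻¹ ∈ H ∧
          crF g F N (cv (F i)) * y₂ * (crF g F N b)⁻¹ ∈ H := by
      intro H hF
      obtain ⟨s₁, a, w₁, y₁, hc₁, hw₁, hm₁⟩ := walkRefs_sound hiv he hF _ _ _ _ _ hwalk
      rw [Bool.and_eq_true] at hc₁
      rw [Nat.eq_of_beq_eq_true hc₁.1] at hm₁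
      obtain ⟨w₂, hw₂, hc₂⟩ := eat_sound he hc₁.2
      obtain ⟨s₂, b, w₃, y₂, hc₃, hw₃, hm₂⟩ := walkRefs_sound hiv he hF _ _ _ _ _ hc₂
      rw [Bool.and_eq_true] at hc₃
      cases w₃ with
      | nil =>
        exact ⟨w₁, w₂, y₁, y₂, s₂, b, hc₃.2, Nat.eq_of_beq_eq_true hc₃.1, hw₁, hw₂,
          by rw [hw₃, prodw_nil, mul_one], hm₁, hm₂⟩
      | cons => exact absurd hc₃.2 Bool.false_ne_true
    refine ⟨fun hF => ?_, ?_⟩
    · obtain ⟨w₁, w₂, y₁, y₂, s', b, -, rfl, hw₁, hw₂, hw₃, hm₁, hm₂⟩ := key H hF
      have hw : crF g F N b * prodw g (wd r) * (crF g F N b)⁻¹ ∈ H := by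
        simp only [Bool.or_eq_true, Bool.and_eq_true, Nat.blt_eq, Nat.beq_eq] at hr
        rcases hr with hr | ⟨rfl, hr⟩
        · simp [hrel r hr, H.one_mem]
        · simpa [crF_zero] using hsub r hr
      rw [hw₁, hw₂, hw₃] at hw
      have := H.mul_mem (H.mul_mem (H.inv_mem hm₁) hw) (H.inv_mem hm₂)
      simpa [Holds, mul_assoc] using this
    · obtain ⟨_, _, _, _, s', _, hs, -⟩ := key ⊤ fun _ _ => Subgroup.mem_top _
      exact ⟨s', hs⟩
  · simp only [hd, cond_true, force_eq, Bool.and_eq_true, Nat.blt_eq] at h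
    obtain ⟨⟨⟨hN, hv⟩, hu⟩, hc⟩ := h
    refine ⟨fun _ => ?_, _, hc⟩
    have hv' : cv (F i) = i + 1 := Nat.eq_of_beq_eq_true hv
    have hcr : crF g F N (i + 1) = crF g F N (cu (F i)) * g (cl (F i)) := by
      conv_lhs => rw [crF]
      rw [dif_pos ⟨Nat.succ_pos i, hN, hu⟩]
      rfl
    rw [Holds, hv', hcr, mul_inv_cancel]
    exact H.one_mem

include hiv he hrel hsub in
theorem checkBlock_sound : ∀ (cnt i s : Nat),
    checkBlock F iv e wd nR nW N cnt i s = true → Steps g H F N i (i + cnt) := by
  intro cnt
  induction cnt with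
  | zero => intro i s _ j h1 h2; omega
  | succ cnt ih =>
    intro i s h
    change checkEntry F iv e wd nR nW N i s (fun s' =>
      force (Nat.add i 1) fun i' => checkBlock F iv e wd nR nW N cnt i' s') = true at h
    obtain ⟨h0, s', hs⟩ := checkEntry_sound hiv he hrel hsub h
    rw [force_eq] at hs
    intro j hj hj'
    rcases Nat.eq_or_lt_of_le hj with rfl | hlt
    · exact h0
    · exact ih (i + 1) s' hs j hlt (by omega)

include hiv in
theorem checkRefs_sound {m n p : Nat} (hF : ∀ j < m, Holds g H F N j) :
    ∀ (cnt x s : Nat) (cont : Nat → Bool), checkRefs F iv m n p cnt x s cont = true →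
      (∃ s', cont s' = true) ∧ ∀ y, x ≤ y → y < x + cnt →
        ∃ q, q < n ∧ crF g F N p * g y * (crF g F N q)⁻¹ ∈ H := by
  intro cnt
  induction cnt with
  | zero => exact fun x s cont h => ⟨⟨s, h⟩, fun y h1 h2 => by omega⟩
  | succ cnt ih =>
    intro x s cont h
    change force (Nat.shiftRight (low s 1048575) 1) (fun j =>
      Nat.blt j m && force (F j) fun c =>
        (bif Nat.beq (Nat.land s 1) 1 then
          Nat.beq (cu c) p && Nat.beq (cl c) x && Nat.blt (cv c) n
        else Nat.beq (cv c) p && Nat.beq (iv (cl c)) x && Nat.blt (cu c) n) &&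
        force (Nat.shiftRight s 20) fun s' => checkRefs F iv m n p cnt (Nat.add x 1) s' cont)
      = true at h
    simp only [force_eq] at h
    generalize Nat.shiftRight (low s 1048575) 1 = j at h
    rw [Bool.and_eq_true, Bool.and_eq_true, Nat.blt_eq] at h
    obtain ⟨hj, hedge, hrest⟩ := h
    obtain ⟨h1, h2⟩ := ih _ _ _ hrest
    refine ⟨h1, fun y hy hy' => ?_⟩
    rcases Nat.eq_or_lt_of_le hy with rfl | hlt
    · have hm : crF g F N (cu (F j)) * g (cl (F j)) * (crF g F N (cv (F j)))⁻¹ ∈ H := hF j hj
      cases hd : Nat.beq (Nat.land s 1) 1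
      · simp only [hd, cond_false, Bool.and_eq_true, Nat.blt_eq] at hedge
        refine ⟨cu (F j), hedge.2, ?_⟩
        rw [Nat.eq_of_beq_eq_true hedge.1.1] at hm
        rw [← Nat.eq_of_beq_eq_true hedge.1.2, hiv]
        simpa [mul_assoc] using H.inv_mem hm
      · simp only [hd, cond_true, Bool.and_eq_true, Nat.blt_eq] at hedge
        refine ⟨cv (F j), hedge.2, ?_⟩
        rw [Nat.eq_of_beq_eq_true hedge.1.1, Nat.eq_of_beq_eq_true hedge.1.2] at hm
        exact hm
    · refine h2 y ?_ ?_
      · show x + 1 ≤ y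
        omega
      · show y < x + 1 + cnt
        omega

/-- All edges at the nodes in `[lo, hi)` lead to nodes below `n`. -/
def Closed (g : Nat → G) (H : Subgroup G) (F : Nat → Nat) (N n k lo hi : Nat) : Prop :=
  ∀ p, lo ≤ p → p < hi → ∀ y, y < k → ∃ q, q < n ∧ crF g F N p * g y * (crF g F N q)⁻¹ ∈ H

theorem Closed.join {n k lo mid hi : Nat} (h₁ : Closed g H F N n k lo mid)
    (h₂ : Closed g H F N n k mid hi) : Closed g H F N n k lo hi := fun p hl hh =>
  (lt_or_ge p mid).elim (fun h => h₁ p hl h) fun h => h₂ p h hh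

include hiv in
theorem checkTable_sound {m n k : Nat} (hF : ∀ j < m, Holds g H F N j) :
    ∀ (cnt p s : Nat), checkTable F iv m n k cnt p s = true →
      Closed g H F N n k p (p + cnt) := by
  intro cnt
  induction cnt with
  | zero => intro p s _ q h1 h2; omega
  | succ cnt ih =>
    intro p s h
    change checkRefs F iv m n p k 0 s (fun s' =>
      force (Nat.add p 1) fun p' => checkTable F iv m n k cnt p' s') = true at h
    obtain ⟨⟨s', hs⟩, h0⟩ := checkRefs_sound hiv hF _ _ _ _ h
    rw [force_eq] at hs
    intro q hq hq'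
    rcases Nat.eq_or_lt_of_le hq with rfl | hlt
    · intro y hy
      exact h0 y (Nat.zero_le _) (by omega)
    · exact ih (p + 1) s' hs q hlt (by omega)

include hiv in
/-- A closed log bounds the order of the group of the letters. -/
theorem finite_and_card_le [Finite H] {n k : Nat} (hn : 0 < n)
    (hk : ∀ x, x < k → iv x < k) (hc : Closed g H F N n k 0 n) :
    Finite (Subgroup.closure (g '' {x | x < k})) ∧
      Nat.card (Subgroup.closure (g '' {x | x < k})) ≤ n * Nat.card H := by
  have claim : ∀ y ∈ Subgroup.closure (g '' {x | x < k}), ∀ i, i < n →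
      ∃ j, j < n ∧ crF g F N i * y * (crF g F N j)⁻¹ ∈ H := by
    intro y hy
    induction hy using Subgroup.closure_induction'' with
    | mem y hy =>
      obtain ⟨x, hx, rfl⟩ := hy
      exact fun i hi => hc i (Nat.zero_le _) hi x hx
    | inv_mem y hy =>
      obtain ⟨x, hx, rfl⟩ := hy
      rw [← hiv x]
      exact fun i hi => hc i (Nat.zero_le _) hi _ (hk x hx)
    | one => exact fun i hi => ⟨i, hi, by simp [H.one_mem]⟩
    | mul y z _ _ h1 h2 =>
      intro i hi
      obtain ⟨j, hj, hyj⟩ := h1 i hi
      obtain ⟨l, hl, hzl⟩ := h2 j hj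
      refine ⟨l, hl, ?_⟩
      have := H.mul_mem hyj hzl
      simpa [mul_assoc] using this
  let f : Fin n × H → G := fun p => (p.2 : G) * crF g F N p.1
  have hsub : ((Subgroup.closure (g '' {x | x < k})) : Set G) ⊆ Set.range f := by
    intro y hy
    obtain ⟨j, hj, hyj⟩ := claim y hy 0 hn
    rw [crF_zero, one_mul] at hyj
    exact ⟨(⟨j, hj⟩, ⟨_, hyj⟩), inv_mul_cancel_right y _⟩
  refine ⟨((Set.finite_range f).subset hsub).to_subtype, ?_⟩
  calc Nat.card (Subgroup.closure (g '' {x | x < k}))
      ≤ Nat.card (Set.range f) := Nat.card_mono (Set.finite_range f) hsub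
    _ ≤ Nat.card (Fin n × H) := Finite.card_range_le f
    _ = n * Nat.card H := by rw [Nat.card_prod, Nat.card_fin]

end Sound

end

end CfsgLib.CosetEnum.Log
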